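import Groth.Agent.Books.ComodHom
import Groth.Prelude.Def_Hoch
import Mathlib.RingTheory.Coalgebra.Convolution
import Mathlib.RingTheory.SimpleModule.Isotypic
import Mathlib.RingTheory.SimpleModule.Basic

/-!
# Comodules over a field as modules over the dual algebra

For a coalgebra `C` over a field `k` the dual `C^*` is a `k`-algebra under convolution (Mathlib:
`WithConv (C →ₗ[k] k)`), and every right `C`-comodule is a left `C^*`-module through
`φ · v = (id ⊗ φ)(ρ v)`.  Subcomodules are the `C^*`-submodules, comodule maps are the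
`C^*`-linear maps, and simple / semisimple comodules are simple / semisimple modules.
-/

set_option autoImplicit false

universe u v w w' w''

open TensorProduct HopfRep

noncomputable section

namespace K192.DualMod

open Groth.Agent.Books.ComodBasic Groth.Agent.Books.ComodHom

/-- The dual algebra of a coalgebra, with convolution product. -/
abbrev Dl (k : Type u) (C : Type v) [Field k] [AddCommGroup C] [Module k C] [Coalgebra k C] :=
  WithConv (C →ₗ[k] k)

section Mod

variable (k : Type u) (C : Type v) [Field k] [AddCommGroup C] [Module k C] [Coalgebra k C]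

/-- The underlying type of a comodule, regarded as a module over the dual algebra. -/
def DM (_k : Type u) (_C : Type v) (V : Type w) : Type w := V

variable (V : Type w) [AddCommGroup V] [Module k V]

instance DM.instAddCommGroup : AddCommGroup (DM k C V) := inferInstanceAs (AddCommGroup V)

instance DM.instModuleBase : Module k (DM k C V) := inferInstanceAs (Module k V)

variable [Comod k C V]

/-- The algebra map from the dual algebra to the endomorphisms of a comodule. -/
noncomputable def dactHom : Dl k C →+* Module.End k V where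
  toFun φ := dact V φ.ofConv
  map_one' := by
    ext v
    have : (1 : Dl k C).ofConv = CoalgebraStruct.counit (R := k) (A := C) := by
      ext c
      rfl
    rw [this, dact_counit]
    rfl
  map_mul' φ ψ := by
    ext v
    rw [Module.End.mul_apply, dact_dact]
    rfl
  map_zero' := by
    ext v
    simp [dact, slice]
  map_add' φ ψ := by
    ext v
    simp [dact, slice, LinearMap.lTensor_add]

lemma dactHom_apply (φ : Dl k C) (v : V) : dactHom k C V φ v = dact V φ.ofConv v := rfl

noncomputable instance DM.instModule : Module (Dl k C) (DM k C V) :=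
  show Module (Dl k C) V from Module.compHom V (dactHom k C V)

variable {k C V}

lemma smul_def (φ : Dl k C) (v : DM k C V) :
    φ • v = (show DM k C V from dact (k := k) (A := C) V φ.ofConv (show V from v)) := rfl

instance DM.instIsScalarTower : IsScalarTower k (Dl k C) (DM k C V) where
  smul_assoc c φ v := by
    change dact (k := k) (A := C) V (c • φ).ofConv (show V from v) =
      c • dact (k := k) (A := C) V φ.ofConv (show V from v)
    have : (c • φ).ofConv = c • φ.ofConv := rfl
    rw [this]
    simp [dact, slice, LinearMap.lTensor_smul]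

/-- A subcomodule as a submodule over the dual algebra. -/
def toSub (W : Submodule k V) (hW : IsSubcomod (k := k) (A := C) W) :
    Submodule (Dl k C) (DM k C V) where
  carrier := {v | (show V from v) ∈ W}
  add_mem' ha hb := W.add_mem ha hb
  zero_mem' := W.zero_mem
  smul_mem' φ v hv := (isSubcomod_iff_dact W).1 hW φ.ofConv v hv

lemma mem_toSub (W : Submodule k V) (hW : IsSubcomod (k := k) (A := C) W) (v : DM k C V) :
    v ∈ toSub W hW ↔ (show V from v) ∈ W := Iff.rfl

/-- A submodule over the dual algebra as a subspace. -/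
def ofSub (N : Submodule (Dl k C) (DM k C V)) : Submodule k V :=
  (N.restrictScalars k : Submodule k (DM k C V))

lemma mem_ofSub (N : Submodule (Dl k C) (DM k C V)) (v : V) :
    v ∈ ofSub N ↔ (show DM k C V from v) ∈ N := Iff.rfl

lemma isSubcomod_ofSub (N : Submodule (Dl k C) (DM k C V)) :
    IsSubcomod (k := k) (A := C) (ofSub N) := by
  rw [isSubcomod_iff_dact]
  intro φ w hw
  exact N.smul_mem (WithConv.toConv φ) hw

variable (k C V) in
/-- Subcomodules are the submodules over the dual algebra. -/
def subEquiv : {W : Submodule k V // IsSubcomod (k := k) (A := C) W} ≃o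
    Submodule (Dl k C) (DM k C V) where
  toFun W := toSub W.1 W.2
  invFun N := ⟨ofSub N, isSubcomod_ofSub N⟩
  left_inv W := by
    apply Subtype.ext
    ext v
    exact Iff.rfl
  right_inv N := by
    ext v
    exact Iff.rfl
  map_rel_iff' := Iff.rfl

lemma toSub_eq_bot {W : Submodule k V} (hW : IsSubcomod (k := k) (A := C) W) :
    toSub W hW = ⊥ ↔ W = ⊥ := by
  constructor
  · intro h
    rw [eq_bot_iff]
    intro v hv
    have : (show DM k C V from v) ∈ toSub W hW := hv
    rw [h] at this
    exact this
  · rintro rfl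
    rw [eq_bot_iff]
    intro v hv
    exact hv

lemma toSub_eq_top {W : Submodule k V} (hW : IsSubcomod (k := k) (A := C) W) :
    toSub W hW = ⊤ ↔ W = ⊤ := by
  constructor
  · intro h
    rw [eq_top_iff]
    intro v _
    have : (show DM k C V from v) ∈ toSub W hW := by rw [h]; trivial
    exact this
  · rintro rfl
    rw [eq_top_iff]
    intro v _
    exact (Submodule.mem_top : (show V from v) ∈ (⊤ : Submodule k V))

lemma ofSub_bot : ofSub (⊥ : Submodule (Dl k C) (DM k C V)) = ⊥ := rfl

lemma ofSub_top : ofSub (⊤ : Submodule (Dl k C) (DM k C V)) = ⊤ := rfl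

lemma ofSub_toSub {W : Submodule k V} (hW : IsSubcomod (k := k) (A := C) W) :
    ofSub (toSub W hW) = W := rfl

lemma toSub_ofSub (N : Submodule (Dl k C) (DM k C V)) :
    toSub (ofSub N) (isSubcomod_ofSub N) = N := rfl

lemma ofSub_le_iff {N N' : Submodule (Dl k C) (DM k C V)} : ofSub N ≤ ofSub N' ↔ N ≤ N' := Iff.rfl

lemma ofSub_injective : Function.Injective (ofSub : Submodule (Dl k C) (DM k C V) → _) := by
  intro N N' h
  exact le_antisymm (ofSub_le_iff.1 h.le) (ofSub_le_iff.1 h.ge)

/-- The supremum of subcomodules computed over the dual algebra. -/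
lemma ofSub_iSup {ι : Sort*} (N : ι → Submodule (Dl k C) (DM k C V)) :
    ofSub (⨆ i, N i) = ⨆ i, ofSub (N i) := by
  apply le_antisymm
  · have h : IsSubcomod (k := k) (A := C) (⨆ i, ofSub (N i)) :=
      IsSubcomod.iSup fun i => isSubcomod_ofSub (N i)
    have : (⨆ i, N i) ≤ toSub _ h := by
      refine iSup_le fun i => ?_
      intro v hv
      exact (le_iSup (fun i => ofSub (N i)) i) hv
    intro v hv
    exact this hv
  · refine iSup_le fun i => ?_
    exact ofSub_le_iff.2 (le_iSup N i)

lemma ofSub_inf (N N' : Submodule (Dl k C) (DM k C V)) :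
    ofSub (N ⊓ N') = ofSub N ⊓ ofSub N' := rfl

lemma ofSub_sup (N N' : Submodule (Dl k C) (DM k C V)) :
    ofSub (N ⊔ N') = ofSub N ⊔ ofSub N' := by
  apply le_antisymm
  · have h : IsSubcomod (k := k) (A := C) (ofSub N ⊔ ofSub N') :=
      Groth.Agent.Books.ComodBasic.IsSubcomod.sup (isSubcomod_ofSub N) (isSubcomod_ofSub N')
    have : N ⊔ N' ≤ toSub _ h := by
      refine sup_le ?_ ?_
      · intro v hv
        exact (le_sup_left : ofSub N ≤ ofSub N ⊔ ofSub N') hv
      · intro v hv
        exact (le_sup_right : ofSub N' ≤ ofSub N ⊔ ofSub N') hv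
    intro v hv
    exact this hv
  · exact sup_le (ofSub_le_iff.2 le_sup_left) (ofSub_le_iff.2 le_sup_right)

lemma isCompl_ofSub {N N' : Submodule (Dl k C) (DM k C V)} :
    IsCompl (ofSub N) (ofSub N') ↔ IsCompl N N' := by
  constructor
  · intro h
    refine ⟨disjoint_iff.2 (ofSub_injective ?_), codisjoint_iff.2 (ofSub_injective ?_)⟩
    · rw [ofSub_inf, h.inf_eq_bot, ofSub_bot]
    · rw [ofSub_sup, h.sup_eq_top, ofSub_top]
  · intro h
    refine ⟨disjoint_iff.2 ?_, codisjoint_iff.2 ?_⟩
    · rw [← ofSub_inf, h.inf_eq_bot, ofSub_bot]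
    · rw [← ofSub_sup, h.sup_eq_top, ofSub_top]

variable (k C V) in
/-- Semisimple comodules are semisimple modules over the dual algebra. -/
theorem isSemisimpleComod_iff :
    IsSemisimpleComod k C V ↔ IsSemisimpleModule (Dl k C) (DM k C V) := by
  rw [isSemisimpleModule_iff]
  constructor
  · intro h
    refine ⟨fun N => ?_⟩
    obtain ⟨W', hW', hc⟩ := h (ofSub N) (isSubcomod_ofSub N)
    refine ⟨toSub W' hW', ?_⟩
    rw [← isCompl_ofSub]
    exact hc
  · intro h W hW
    obtain ⟨N, hN⟩ := h.exists_isCompl (toSub W hW)
    refine ⟨ofSub N, isSubcomod_ofSub N, ?_⟩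
    rw [← isCompl_ofSub] at hN
    exact hN

variable (k C V) in
/-- Simple comodules are simple modules over the dual algebra. -/
theorem isSimpleComod_iff :
    IsSimpleComod k C V ↔ IsSimpleModule (Dl k C) (DM k C V) := by
  constructor
  · intro h
    have : Nontrivial (DM k C V) := h.1
    rw [isSimpleModule_iff]
    refine { eq_bot_or_eq_top := fun N => ?_ }
    rcases h.2 (ofSub N) (isSubcomod_ofSub N) with h | h
    · left
      exact ofSub_injective h
    · right
      exact ofSub_injective h
  · intro h
    refine ⟨IsSimpleModule.nontrivial (Dl k C) (DM k C V), fun W hW => ?_⟩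
    rcases eq_bot_or_eq_top (toSub W hW) with h | h
    · left
      exact (toSub_eq_bot hW).1 h
    · right
      exact (toSub_eq_top hW).1 h

end Mod

section Hom

variable {k : Type u} {C : Type v} [Field k] [AddCommGroup C] [Module k C] [Coalgebra k C]
variable {V : Type w} [AddCommGroup V] [Module k V] [Comod k C V]
variable {W : Type w'} [AddCommGroup W] [Module k W] [Comod k C W]

lemma isComodHom_iff (f : V →ₗ[k] W) :
    Hoch.IsComodHom C f ↔ IsComodHom k C f := by
  rw [Hoch.IsComodHom]
  constructor
  · intro h v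
    exact LinearMap.congr_fun h v
  · intro h
    exact LinearMap.ext h

lemma isComodHom_iff_dact' (f : V →ₗ[k] W) :
    Hoch.IsComodHom C f ↔ ∀ (φ : C →ₗ[k] k) (v : V), f (dact V φ v) = dact W φ (f v) := by
  rw [isComodHom_iff, isComodHom_iff_dact]

/-- A comodule map as a linear map over the dual algebra. -/
def toHom (f : V →ₗ[k] W) (hf : Hoch.IsComodHom C f) : DM k C V →ₗ[Dl k C] DM k C W where
  toFun v := f v
  map_add' x y := f.map_add x y
  map_smul' φ v := (isComodHom_iff_dact' f).1 hf φ.ofConv v

lemma toHom_apply (f : V →ₗ[k] W) (hf : Hoch.IsComodHom C f) (v : V) :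
    toHom f hf v = f v := rfl

/-- A linear map over the dual algebra as a linear map. -/
def ofHom (g : DM k C V →ₗ[Dl k C] DM k C W) : V →ₗ[k] W :=
  (g.restrictScalars k : DM k C V →ₗ[k] DM k C W)

lemma ofHom_apply (g : DM k C V →ₗ[Dl k C] DM k C W) (v : V) : ofHom g v = g v := rfl

lemma isComodHom_ofHom (g : DM k C V →ₗ[Dl k C] DM k C W) : Hoch.IsComodHom C (ofHom g) := by
  rw [isComodHom_iff_dact']
  intro φ v
  exact g.map_smul (WithConv.toConv φ) v

/-- A comodule isomorphism as a linear equivalence over the dual algebra. -/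
def toEquiv (e : V ≃ₗ[k] W) (he : Hoch.IsComodHom C (e : V →ₗ[k] W)) :
    DM k C V ≃ₗ[Dl k C] DM k C W :=
  { toHom (e : V →ₗ[k] W) he with
    invFun := fun w => e.symm w
    left_inv := fun v => e.symm_apply_apply v
    right_inv := fun w => e.apply_symm_apply w }

/-- A linear equivalence over the dual algebra as a linear equivalence. -/
def ofEquiv (e : DM k C V ≃ₗ[Dl k C] DM k C W) : V ≃ₗ[k] W :=
  (e.restrictScalars k : DM k C V ≃ₗ[k] DM k C W)

lemma ofEquiv_apply (e : DM k C V ≃ₗ[Dl k C] DM k C W) (v : V) : ofEquiv e v = e v := rfl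

lemma isComodHom_ofEquiv (e : DM k C V ≃ₗ[Dl k C] DM k C W) :
    Hoch.IsComodHom C (ofEquiv e : V →ₗ[k] W) :=
  isComodHom_ofHom e.toLinearMap

lemma isComodHom_comp {X : Type w''} [AddCommGroup X] [Module k X] [Comod k C X]
    {g : W →ₗ[k] X} {f : V →ₗ[k] W} (hg : Hoch.IsComodHom C g) (hf : Hoch.IsComodHom C f) :
    Hoch.IsComodHom C (g ∘ₗ f) := by
  rw [isComodHom_iff] at *
  exact hg.comp hf

lemma isSubcomod_range {f : V →ₗ[k] W} (hf : Hoch.IsComodHom C f) :
    IsSubcomod (k := k) (A := C) (LinearMap.range f) := by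
  rw [isComodHom_iff] at hf
  exact hf.isSubcomod_range

lemma isSubcomod_ker {f : V →ₗ[k] W} (hf : Hoch.IsComodHom C f) :
    IsSubcomod (k := k) (A := C) (LinearMap.ker f) := by
  rw [isComodHom_iff] at hf
  exact hf.isSubcomod_ker

lemma isComodHom_symm {e : V ≃ₗ[k] W} (he : Hoch.IsComodHom C (e : V →ₗ[k] W)) :
    Hoch.IsComodHom C (e.symm : W →ₗ[k] V) := by
  rw [isComodHom_iff] at *
  exact he.symm

/-- Semisimplicity passes along an injective comodule map into a semisimple comodule. -/
theorem isSemisimpleComod_of_injective {f : V →ₗ[k] W} (hf : Hoch.IsComodHom C f)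
    (hinj : Function.Injective f) (hW : IsSemisimpleComod k C W) : IsSemisimpleComod k C V := by
  rw [isSemisimpleComod_iff] at *
  exact IsSemisimpleModule.of_injective (toHom f hf) hinj

/-- Semisimplicity passes along a surjective comodule map. -/
theorem isSemisimpleComod_of_surjective {f : V →ₗ[k] W} (hf : Hoch.IsComodHom C f)
    (hsur : Function.Surjective f) (hV : IsSemisimpleComod k C V) : IsSemisimpleComod k C W := by
  rw [isSemisimpleComod_iff] at *
  exact IsSemisimpleModule.of_surjective (toHom f hf) hsur

end Hom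

end K192.DualMod

end
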