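import Groth.Agent.HopfRep.K192.DualMod

/-!
# Simple subcomodules, direct sum decompositions, isotypic components of comodules
-/

set_option autoImplicit false

universe u v w w' w''

open TensorProduct HopfRep

noncomputable section

namespace K192.DualMod

open Groth.Agent.Books.ComodBasic Groth.Agent.Books.ComodHom

variable {k : Type u} {C : Type v} [Field k] [AddCommGroup C] [Module k C] [Coalgebra k C]
variable {V : Type w} [AddCommGroup V] [Module k V] [Comod k C V]
variable {W : Type w'} [AddCommGroup W] [Module k W] [Comod k C W]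

/-- A subspace is a simple subcomodule. -/
def IsSimpleSub (k : Type u) (C : Type v) [Field k] [AddCommGroup C] [Module k C] [Coalgebra k C]
    {V : Type w} [AddCommGroup V] [Module k V] [Comod k C V] (U : Submodule k V) : Prop :=
  IsSubcomod (k := k) (A := C) U ∧ U ≠ ⊥ ∧
    ∀ U' : Submodule k V, IsSubcomod (k := k) (A := C) U' → U' ≤ U → U' = ⊥ ∨ U' = U

lemma isSimpleSub_iff {U : Submodule k V} (hU : IsSubcomod (k := k) (A := C) U) :
    IsSimpleSub k C U ↔ IsSimpleModule (Dl k C) (toSub U hU) := by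
  rw [isSimpleModule_iff_isAtom]
  constructor
  · rintro ⟨_, h2, h3⟩
    refine ⟨fun h => h2 ((toSub_eq_bot hU).1 h), fun N hN => ?_⟩
    rcases h3 (ofSub N) (isSubcomod_ofSub N) (fun v hv => hN.le hv) with h | h
    · exact ofSub_injective h
    · exact absurd (ofSub_injective (show ofSub N = ofSub (toSub U hU) from h)) hN.ne
  · intro h
    refine ⟨hU, fun h' => h.1 ((toSub_eq_bot hU).2 h'), fun U' hU' hle => ?_⟩
    have hle' : toSub U' hU' ≤ toSub U hU := fun v hv => hle hv
    rcases h.le_iff.1 hle' with h' | h'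
    · left
      exact (toSub_eq_bot hU').1 h'
    · right
      exact congrArg ofSub h'

lemma isSimpleSub_ofSub_iff (N : Submodule (Dl k C) (DM k C V)) :
    IsSimpleSub k C (ofSub N) ↔ IsSimpleModule (Dl k C) N :=
  isSimpleSub_iff (isSubcomod_ofSub N)

lemma disjoint_ofSub {N N' : Submodule (Dl k C) (DM k C V)} :
    Disjoint (ofSub N) (ofSub N') ↔ Disjoint N N' := by
  rw [disjoint_iff, disjoint_iff, ← ofSub_inf, ← ofSub_bot (k := k) (C := C) (V := V)]
  exact ofSub_injective.eq_iff

lemma iSupIndep_ofSub {ι : Sort*} {N : ι → Submodule (Dl k C) (DM k C V)} :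
    iSupIndep (fun i => ofSub (N i)) ↔ iSupIndep N := by
  unfold iSupIndep
  refine forall_congr' fun i => ?_
  rw [← disjoint_ofSub]
  have : (⨆ j, ⨆ (_ : j ≠ i), ofSub (N j)) = ofSub (⨆ j, ⨆ (_ : j ≠ i), N j) := by
    rw [ofSub_iSup]
    exact iSup_congr fun j => (ofSub_iSup _).symm
  rw [this]

/-- A semisimple comodule is the sum of its simple subcomodules. -/
theorem iSup_simple_eq_top (hV : IsSemisimpleComod k C V) :
    (⨆ U : {U : Submodule k V // IsSimpleSub k C U}, (U.1 : Submodule k V)) = ⊤ := by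
  rw [isSemisimpleComod_iff] at hV
  have h := IsSemisimpleModule.sSup_simples_eq_top (Dl k C) (DM k C V)
  rw [eq_top_iff, ← ofSub_top (k := k) (C := C) (V := V), ← h, sSup_eq_iSup', ofSub_iSup]
  refine iSup_le fun N => ?_
  exact le_iSup (fun U : {U : Submodule k V // IsSimpleSub k C U} => (U.1 : Submodule k V))
    ⟨ofSub N.1, (isSimpleSub_ofSub_iff N.1).2 N.2⟩

/-- A comodule is semisimple iff it is the direct sum of simple subcomodules. -/
theorem isSemisimpleComod_iff_exists :
    (∃ (ι : Type w) (U : ι → Submodule k V), iSupIndep U ∧ iSup U = ⊤ ∧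
      ∀ i, IsSimpleSub k C (U i)) ↔ IsSemisimpleComod k C V := by
  rw [isSemisimpleComod_iff]
  constructor
  · rintro ⟨ι, U, -, h2, h3⟩
    have hs : ∀ i, IsSemisimpleModule (Dl k C) (toSub (U i) (h3 i).1) := fun i => by
      have := (isSimpleSub_iff (h3 i).1).1 (h3 i)
      infer_instance
    refine isSemisimpleModule_of_isSemisimpleModule_submodule'
      (p := fun i => toSub (U i) (h3 i).1) hs ?_
    apply ofSub_injective
    rw [ofSub_iSup, ofSub_top]
    exact h2
  · intro h
    obtain ⟨s, h1, h2, h3⟩ :=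
      IsSemisimpleModule.exists_sSupIndep_sSup_simples_eq_top (Dl k C) (DM k C V)
    refine ⟨s, fun N => ofSub N.1, ?_, ?_, fun N => ?_⟩
    · rw [iSupIndep_ofSub]
      exact (sSupIndep_iff s).1 h1
    · rw [← ofSub_iSup, ← sSup_eq_iSup', h2, ofSub_top]
    · exact (isSimpleSub_ofSub_iff N.1).2 (h3 N.1 N.2)

/-- A simple comodule mapping nontrivially to a sum of images of simple comodules is isomorphic
to one of them. -/
theorem exists_comodIso_of_le_iSup_range {ι : Type*} (K : ι → Type w') [∀ i, AddCommGroup (K i)]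
    [∀ i, Module k (K i)] [∀ i, Comod k C (K i)]
    (hK : ∀ i, IsSimpleComod k C (K i)) (g : ∀ i, K i →ₗ[k] V)
    (hg : ∀ i, Hoch.IsComodHom C (g i)) (hsum : (⨆ i, LinearMap.range (g i)) = ⊤)
    (S : Type w'') [AddCommGroup S] [Module k S] [Comod k C S] (hS : IsSimpleComod k C S)
    (f : S →ₗ[k] V) (hf : Hoch.IsComodHom C f) (hf0 : f ≠ 0) :
    ∃ (i : ι) (e : S ≃ₗ[k] K i), Hoch.IsComodHom C (e : S →ₗ[k] K i) := by
  have hsK : ∀ i, IsSimpleModule (Dl k C) (DM k C (K i)) := fun i => (isSimpleComod_iff k C _).1 (hK i)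
  have hsS : IsSimpleModule (Dl k C) (DM k C S) := (isSimpleComod_iff k C _).1 hS
  let G : ∀ i, DM k C (K i) →ₗ[Dl k C] DM k C V := fun i => toHom (g i) (hg i)
  have hsum' : (⨆ i, LinearMap.range (G i)) = ⊤ := by
    apply ofSub_injective
    rw [ofSub_iSup, ofSub_top, ← hsum]
    rfl
  have hsemi : IsSemisimpleModule (Dl k C) (DM k C V) := by
    refine isSemisimpleModule_of_isSemisimpleModule_submodule' (p := fun i => LinearMap.range (G i))
      (fun i => ?_) hsum'
    exact IsSemisimpleModule.range (G i)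
  let F : DM k C S →ₗ[Dl k C] DM k C V := toHom f hf
  have hF0 : F ≠ 0 := by
    intro h
    apply hf0
    ext v
    exact LinearMap.congr_fun h v
  have hFinj : Function.Injective F := LinearMap.injective_of_ne_zero hF0
  -- a retraction of `F`
  obtain ⟨r, hr⟩ := IsSemisimpleModule.extension_property F hFinj LinearMap.id
  have hr0 : r ≠ 0 := by
    intro h
    have := hS.1
    obtain ⟨x, hx⟩ := exists_ne (0 : S)
    have : (r ∘ₗ F) x = x := by rw [hr]; rfl
    rw [h] at this
    exact hx this.symm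
  obtain ⟨i, hi⟩ : ∃ i, r ∘ₗ G i ≠ 0 := by
    by_contra hcon
    push Not at hcon
    apply hr0
    rw [← LinearMap.ker_eq_top, eq_top_iff, ← hsum']
    refine iSup_le fun i => ?_
    rintro _ ⟨x, rfl⟩
    exact LinearMap.congr_fun (hcon i) x
  have hbij : Function.Bijective (r ∘ₗ G i) := LinearMap.bijective_of_ne_zero hi
  exact ⟨i, ofEquiv (LinearEquiv.ofBijective (r ∘ₗ G i) hbij).symm, isComodHom_ofEquiv _⟩

end K192.DualMod

end
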