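import Groth.Agent.HopfRep.K192.BaseCh

/-!
# Descent of semisimplicity of comodules along a field extension
-/

set_option autoImplicit false

universe u₁ u₂ u₃ u₄ u₅ u

open TensorProduct HopfRep

noncomputable section

set_option linter.unusedSectionVars false

namespace K192.BaseCh

open Groth.Agent.Books.ComodBasic Groth.Agent.Books.ComodHom K192.DualMod

section Coalg

variable {k : Type u₁} [Field k] (K : Type u₂) [Field K] [Algebra k K]
  {A : Type u₃} [AddCommGroup A] [Module k A] [Coalgebra k A]
  {V : Type u₄} [AddCommGroup V] [Module k V] [Comod k A V]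

/-- The `K`-linear extension of a functional. -/
def extF (φ : A →ₗ[k] k) : K ⊗[k] A →ₗ[K] K :=
  (AlgebraTensorModule.rid k K K).toLinearMap ∘ₗ φ.baseChange K

lemma extF_tmul (φ : A →ₗ[k] k) (s : K) (a : A) : extF K φ (s ⊗ₜ a) = φ a • s := by
  simp [extF]

/-- Slicing after base change. -/
lemma slice_distrib (φ : A →ₗ[k] k) (y : K ⊗[k] (V ⊗[k] A)) :
    slice (K ⊗[k] V) (extF K φ) (AlgebraTensorModule.distribBaseChange k K V A y) =
      (slice V φ).baseChange K y := by
  induction y with
  | zero => simp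
  | tmul s x =>
    induction x with
    | zero => simp
    | tmul v a =>
      rw [AlgebraTensorModule.distribBaseChange_tmul, slice_tmul, extF_tmul,
        LinearMap.baseChange_tmul, slice_tmul, smul_assoc, one_smul, tmul_smul]
    | add x y hx hy => simp only [tmul_add, map_add, hx, hy]
  | add x y hx hy => simp only [map_add, hx, hy]

/-- The action of an extended functional on the base-changed comodule. -/
theorem dact_extF (φ : A →ₗ[k] k) (x : K ⊗[k] V) :
    @dact K (K ⊗[k] A) _ _ _ _ (K ⊗[k] V) _ _ (CoactBr.Comod.baseChange k K A V) (extF K φ) x =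
      (dact V φ).baseChange K x := by
  change slice (K ⊗[k] V) (extF K φ) ((CoactBr.Comod.baseChange k K A V).coact x) = _
  rw [baseChange_coact, slice_distrib, ← LinearMap.comp_apply, ← LinearMap.baseChange_comp]
  rfl

/-- The base change of a subcomodule is a subcomodule. -/
theorem isSubcomod_baseChange {W : Submodule k V} (hW : IsSubcomod (k := k) (A := A) W) :
    @IsSubcomod K (K ⊗[k] A) _ _ _ _ (K ⊗[k] V) _ _ (CoactBr.Comod.baseChange k K A V)
      (W.baseChange K) := by
  rintro _ ⟨y, rfl⟩
  induction y with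
  | zero => simp
  | add x y hx hy =>
    rw [map_add, map_add]
    exact Submodule.add_mem _ hx hy
  | tmul s w =>
    rw [LinearMap.baseChange_tmul, baseChange_coact, LinearMap.baseChange_tmul]
    obtain ⟨z, hz⟩ := hW w w.2
    rw [Submodule.subtype_apply, ← hz]
    clear hz
    induction z with
    | zero => simp
    | add x y hx hy =>
      rw [map_add, tmul_add, map_add]
      exact Submodule.add_mem _ hx hy
    | tmul w' a =>
      rw [LinearMap.rTensor_tmul, AlgebraTensorModule.distribBaseChange_tmul]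
      exact ⟨⟨s ⊗ₜ (w' : V), Submodule.tmul_mem_baseChange_of_mem s w'.2⟩ ⊗ₜ (1 ⊗ₜ a), rfl⟩

/-- Contract the first factor `K ⊗ V → V` along a functional on `K`. -/
def contrL (s : K →ₗ[k] k) (V : Type u₄) [AddCommGroup V] [Module k V] : K ⊗[k] V →ₗ[k] V :=
  (TensorProduct.lid k V).toLinearMap ∘ₗ s.rTensor V

lemma contrL_tmul (s : K →ₗ[k] k) (c : K) (v : V) : contrL K s V (c ⊗ₜ v) = s c • v := by
  simp [contrL]

lemma contrL_baseChange (s : K →ₗ[k] k) {U : Type u₅} [AddCommGroup U] [Module k U]
    (f : V →ₗ[k] U) (x : K ⊗[k] V) :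
    contrL K s U (f.baseChange K x) = f (contrL K s V x) := by
  induction x with
  | zero => simp
  | tmul c v => rw [LinearMap.baseChange_tmul, contrL_tmul, contrL_tmul, map_smul]
  | add x y hx hy => simp only [map_add, hx, hy]

/-- Semisimplicity descends along a field extension. -/
theorem isSemisimpleComod_of_baseChange
    (h : @IsSemisimpleComod K (K ⊗[k] A) _ _ _ _ (K ⊗[k] V) _ _ (CoactBr.Comod.baseChange k K A V)) :
    IsSemisimpleComod k A V := by
  intro W hW
  let c := CoactBr.Comod.baseChange k K A V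
  obtain ⟨W', hW', hc⟩ := h (W.baseChange K) (isSubcomod_baseChange K hW)
  -- the projection onto the base change of `W`
  let R : K ⊗[k] V →ₗ[K] K ⊗[k] V := (W.baseChange K).subtype ∘ₗ
    Submodule.projectionOnto (W.baseChange K) W' hc
  have hRmem : ∀ x, R x ∈ W.baseChange K := fun x => Submodule.coe_mem _
  have hRid : ∀ x ∈ W.baseChange K, R x = x := fun x hx => by
    have := Submodule.projectionOnto_apply_left hc ⟨x, hx⟩
    exact congrArg Subtype.val this
  have hR0 : ∀ x ∈ W', R x = 0 := fun x hx => by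
    have := Submodule.projectionOnto_apply_right hc ⟨x, hx⟩
    exact congrArg Subtype.val this
  have hRdact : ∀ (Φ : K ⊗[k] A →ₗ[K] K) (x : K ⊗[k] V),
      R (dact (K ⊗[k] V) Φ x) = dact (K ⊗[k] V) Φ (R x) := by
    intro Φ x
    obtain ⟨y, hy, z, hz, rfl⟩ : ∃ y ∈ W.baseChange K, ∃ z ∈ W', y + z = x := by
      rw [← Submodule.mem_sup, hc.sup_eq_top]
      trivial
    have h1 := (isSubcomod_iff_dact (W.baseChange K)).1 (isSubcomod_baseChange (A := A) K hW) Φ y hy
    have h2 := (isSubcomod_iff_dact W').1 hW' Φ z hz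
    rw [map_add, map_add, map_add, hRid _ h1, hR0 _ h2, hRid _ hy, hR0 _ hz, add_zero, add_zero]
  -- a retraction of `k → K`
  obtain ⟨s, hs⟩ : ∃ s : K →ₗ[k] k, s 1 = 1 := by
    obtain ⟨s, hs⟩ := (Algebra.linearMap k K).exists_leftInverse_of_injective
      (LinearMap.ker_eq_bot.2 (algebraMap k K).injective)
    refine ⟨s, ?_⟩
    have := LinearMap.congr_fun hs 1
    simpa using this
  let r : V →ₗ[k] V := contrL K s V ∘ₗ R.restrictScalars k ∘ₗ TensorProduct.mk k K V 1
  have hr : ∀ v, r v = contrL K s V (R (1 ⊗ₜ v)) := fun v => rfl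
  have hrmem : ∀ v, r v ∈ W := by
    intro v
    obtain ⟨y, hy⟩ := hRmem (1 ⊗ₜ v)
    rw [hr, ← hy, contrL_baseChange]
    exact Submodule.coe_mem _
  have hrid : ∀ w ∈ W, r w = w := by
    intro w hw
    rw [hr, hRid _ (Submodule.tmul_mem_baseChange_of_mem 1 hw), contrL_tmul, hs, one_smul]
  have hrd : ∀ (φ : A →ₗ[k] k) (v : V), r (dact V φ v) = dact V φ (r v) := by
    intro φ v
    have h1 : (1 : K) ⊗ₜ[k] dact V φ v = dact (K ⊗[k] V) (extF K φ) (1 ⊗ₜ[k] v) := by
      rw [dact_extF, LinearMap.baseChange_tmul]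
    rw [hr, h1, hRdact, dact_extF, contrL_baseChange, hr]
  refine ⟨LinearMap.ker r, ?_, ?_⟩
  · rw [isSubcomod_iff_dact]
    intro φ v hv
    rw [LinearMap.mem_ker, hrd, LinearMap.mem_ker.1 hv, map_zero]
  · refine ⟨?_, ?_⟩
    · rw [Submodule.disjoint_def]
      intro x hx hx'
      rw [← hrid x hx]
      exact hx'
    · rw [codisjoint_iff, eq_top_iff]
      intro x _
      refine Submodule.mem_sup.2 ⟨r x, hrmem x, x - r x, ?_, by abel⟩
      rw [LinearMap.mem_ker, map_sub, hrid _ (hrmem x), sub_self]

end Coalg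

/-- Linear reductivity descends along a field extension. -/
theorem isLinearlyReductive_of_baseChange (k K A : Type u) [Field k] [Field K] [Algebra k K]
    [CommRing A] [Bialgebra k A] (h : IsLinearlyReductive K (K ⊗[k] A)) :
    IsLinearlyReductive k A := by
  intro V _ _ _ _
  apply isSemisimpleComod_of_baseChange K
  exact @h (K ⊗[k] V) _ _ (CoactBr.Comod.baseChange k K A V) inferInstance

end K192.BaseCh

end
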