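import Groth.Agent.HopfRep.K192.DualMod2
import Groth.Prelude.Def_ComodTens
import Mathlib.LinearAlgebra.Trace
import Mathlib.Algebra.DirectSum.LinearMap
import Mathlib.LinearAlgebra.Eigenspace.Triangularizable
import Mathlib.LinearAlgebra.Eigenspace.Zero

/-!
# Characters of finite-dimensional comodules

`chi C V` is the character of a finite-dimensional `C`-comodule `V`, characterised by
`φ (chi C V) = trace (φ acting on V)` for all functionals `φ` on `C`; more generally
`tchi C u` is `g ↦ trace (g u)`.  If `u` is a comodule endomorphism then `tchi C u` is a linear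
combination of characters.
-/

set_option autoImplicit false

universe u v w w' w''

open TensorProduct HopfRep

noncomputable section

namespace K192.Char

open Groth.Agent.Books.ComodBasic Groth.Agent.Books.ComodHom K192.DualMod

variable {k : Type u} [Field k] (C : Type v) [AddCommGroup C] [Module k C] [Coalgebra k C]
  {V : Type w} [AddCommGroup V] [Module k V] [Comod k C V]
  {W : Type w'} [AddCommGroup W] [Module k W] [Comod k C W]

/-- The coefficient `g ↦ trace (g u)`. -/
def tchi [Module.Finite k V] (u : V →ₗ[k] V) : C :=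
  ∑ i, coeffMap C ((Module.finBasis k V).coord i) (u (Module.finBasis k V i))

theorem trace_eq_sum {ι : Type*} [Fintype ι] (b : Module.Basis ι k V) (f : V →ₗ[k] V) :
    LinearMap.trace k V f = ∑ i, b.coord i (f (b i)) := by
  classical
  rw [LinearMap.trace_eq_matrix_trace k b, Matrix.trace]
  refine Finset.sum_congr rfl fun i _ => ?_
  rw [Matrix.diag_apply, LinearMap.toMatrix_apply, Module.Basis.coord_apply]

/-- The defining property of `tchi`. -/
theorem apply_tchi [Module.Finite k V] (φ : C →ₗ[k] k) (u : V →ₗ[k] V) :
    φ (tchi C u) = LinearMap.trace k V (dact V φ ∘ₗ u) := by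
  rw [trace_eq_sum (Module.finBasis k V), tchi, map_sum]
  exact Finset.sum_congr rfl fun i _ => apply_coeffMap _ _ _

variable {C} in
omit [Coalgebra k C] in
lemma ext_dual {x y : C} (h : ∀ φ : C →ₗ[k] k, φ x = φ y) : x = y := by
  rw [← sub_eq_zero]
  refine (Module.forall_dual_apply_eq_zero_iff k _).1 fun φ => ?_
  rw [map_sub, h, sub_self]

theorem tchi_eq_sum [Module.Finite k V] {ι : Type*} [Fintype ι] (b : Module.Basis ι k V)
    (u : V →ₗ[k] V) : tchi C u = ∑ i, coeffMap C (b.coord i) (u (b i)) := by
  refine ext_dual (k := k) fun φ => ?_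
  rw [apply_tchi, trace_eq_sum b, map_sum]
  exact Finset.sum_congr rfl fun i _ => (apply_coeffMap _ _ _).symm

variable (k V) in
/-- The character of a finite-dimensional comodule. -/
def chi [Module.Finite k V] : C := tchi (k := k) C (LinearMap.id : V →ₗ[k] V)

theorem apply_chi [Module.Finite k V] (φ : C →ₗ[k] k) :
    φ (chi k C V) = LinearMap.trace k V (dact V φ) := by
  rw [chi, apply_tchi, LinearMap.comp_id]

theorem chi_eq_sum [Module.Finite k V] {ι : Type*} [Fintype ι] (b : Module.Basis ι k V) :
    chi k C V = ∑ i, coeffMap C (b.coord i) (b i) := tchi_eq_sum C b _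

theorem counit_chi [Module.Finite k V] :
    CoalgebraStruct.counit (R := k) (chi k C V) = (Module.finrank k V : k) := by
  rw [apply_chi, ← LinearMap.trace_id]
  congr 1
  ext v
  exact dact_counit v

/-- Isomorphic comodules have the same character. -/
theorem chi_congr [Module.Finite k V] [Module.Finite k W] (e : V ≃ₗ[k] W)
    (he : Hoch.IsComodHom C (e : V →ₗ[k] W)) : chi k C V = chi k C W := by
  refine ext_dual (k := k) fun φ => ?_
  rw [apply_chi, apply_chi, ← LinearMap.trace_conj' (dact V φ) e]
  congr 1
  ext w
  have := (isComodHom_iff_dact' (e : V →ₗ[k] W)).1 he φ (e.symm w)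
  simp only [LinearEquiv.coe_coe, LinearEquiv.apply_symm_apply] at this
  rw [← this]
  rfl

variable (k) in
/-- The set of characters of comodule structures on coordinate spaces. -/
def charSet : Set C :=
  Set.range (fun p : (Σ d : ℕ, Comod k C (Fin d → k)) =>
    ∑ i : Fin p.1, TensorProduct.lid k C (LinearMap.rTensor C (LinearMap.proj i)
      (@Comod.coact k C _ _ _ _ (Fin p.1 → k) _ _ p.2 (Pi.single i 1))))

/-- The character of a structure on a coordinate space. -/
theorem char_eq_chi (d : ℕ) [Comod k C (Fin d → k)] :
    ∑ i : Fin d, TensorProduct.lid k C (LinearMap.rTensor C (LinearMap.proj i)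
      (Comod.coact (k := k) (A := C) (Pi.single i (1 : k) : Fin d → k))) = chi k C (Fin d → k) := by
  classical
  rw [chi_eq_sum C (Pi.basisFun k (Fin d))]
  refine Finset.sum_congr rfl fun i _ => ?_
  rw [Pi.basisFun_apply, coeffMap_apply]
  congr 2

/-- The comodule structure on coordinates. -/
@[reducible] def coordComod [Module.Finite k V] : Comod k C (Fin (Module.finrank k V) → k) :=
  ComodTens.Comod.ofEquiv (Module.finBasis k V).equivFun (inferInstance : Comod k C V)

variable (k V) in
theorem chi_mem_charSet [Module.Finite k V] : chi k C V ∈ charSet k C := by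
  let c : Comod k C (Fin (Module.finrank k V) → k) := coordComod (k := k) C (V := V)
  refine ⟨⟨Module.finrank k V, c⟩, ?_⟩
  change (∑ i : Fin (Module.finrank k V), TensorProduct.lid k C (LinearMap.rTensor C (LinearMap.proj i)
      (Comod.coact (k := k) (A := C) (Pi.single i (1 : k) : Fin (Module.finrank k V) → k)))) = _
  rw [char_eq_chi]
  symm
  apply chi_congr C (Module.finBasis k V).equivFun
  apply LinearMap.ext
  intro v
  exact ComodTens.ofEquiv_coact_apply (Module.finBasis k V).equivFun
    (inferInstance : Comod k C V) v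

theorem mem_charSet_iff (x : C) : x ∈ charSet k C ↔
    ∃ (d : ℕ) (c : Comod k C (Fin d → k)), x = @chi k _ C _ _ _ (Fin d → k) _ _ c _ := by
  constructor
  · rintro ⟨⟨d, c⟩, rfl⟩
    exact ⟨d, c, char_eq_chi C d⟩
  · rintro ⟨d, c, rfl⟩
    exact ⟨⟨d, c⟩, char_eq_chi C d⟩

end K192.Char

end
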