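import Groth.Agent.HopfRep.K192.Char

/-!
# `g ↦ trace (g u)` is a combination of characters for a comodule endomorphism `u`
-/

set_option autoImplicit false

universe u v w w' w''

open TensorProduct HopfRep

noncomputable section

namespace K192.Char

open Groth.Agent.Books.ComodBasic Groth.Agent.Books.ComodHom K192.DualMod

variable {k : Type u} [Field k] {C : Type v} [AddCommGroup C] [Module k C] [Coalgebra k C]
  {V : Type w} [AddCommGroup V] [Module k V] [Comod k C V]

lemma coe_dact_sub {W : Submodule k V} (hW : IsSubcomod (k := k) (A := C) W) (φ : C →ₗ[k] k)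
    (w : W) : ((@dact k C _ _ _ _ W _ _ (subComod W hW) φ w : W) : V) = dact V φ w := by
  let _ := subComod W hW
  exact (isComodHom_subtype (k := k) (A := C) W hW).map_dact φ w

lemma mapsTo_dact {W : Submodule k V} (hW : IsSubcomod (k := k) (A := C) W) (φ : C →ₗ[k] k) :
    Set.MapsTo (dact V φ) W W := fun w hw => (isSubcomod_iff_dact W).1 hW φ w hw

lemma dact_sub_eq {W : Submodule k V} (hW : IsSubcomod (k := k) (A := C) W) (φ : C →ₗ[k] k) :
    @dact k C _ _ _ _ W _ _ (subComod W hW) φ = (dact V φ).restrict (mapsTo_dact hW φ) := by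
  ext w
  exact coe_dact_sub hW φ w

lemma isSubcomod_maxGenEigenspace {u : V →ₗ[k] V} (hu : Hoch.IsComodHom C u) (μ : k) :
    IsSubcomod (k := k) (A := C) (Module.End.maxGenEigenspace u μ) := by
  rw [isSubcomod_iff_dact]
  intro φ w hw
  have hc : Commute u (dact (k := k) (A := C) V φ) := by
    refine LinearMap.ext fun v => ?_
    exact (isComodHom_iff_dact' u).1 hu φ v
  exact Module.End.mapsTo_maxGenEigenspace_of_comm hc μ hw

/-- For a comodule endomorphism `u` of a finite-dimensional comodule over an algebraically closed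
field, `g ↦ trace (g u)` is a linear combination of characters. -/
theorem tchi_mem_span [IsAlgClosed k] [Module.Finite k V] {u : V →ₗ[k] V}
    (hu : Hoch.IsComodHom C u) : tchi C u ∈ Submodule.span k (charSet k C) := by
  classical
  let N : k → Submodule k V := fun μ => Module.End.maxGenEigenspace u μ
  have hN : ∀ μ, IsSubcomod (k := k) (A := C) (N μ) := isSubcomod_maxGenEigenspace hu
  have hint : DirectSum.IsInternal N :=
    DirectSum.isInternal_submodule_of_iSupIndep_of_iSup_eq_top
      (Module.End.independent_maxGenEigenspace u) (Module.End.iSup_maxGenEigenspace_eq_top u)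
  have hfin : {μ | N μ ≠ ⊥}.Finite :=
    WellFoundedGT.finite_ne_bot_of_iSupIndep (Module.End.independent_maxGenEigenspace u)
  let χ : k → C := fun μ => @chi k _ C _ _ _ (N μ) _ _ (subComod (N μ) (hN μ)) _
  have key : tchi C u = ∑ μ ∈ hfin.toFinset, μ • χ μ := by
    refine ext_dual (k := k) fun φ => ?_
    have hc : Commute u (dact (k := k) (A := C) V φ) := by
      refine LinearMap.ext fun v => ?_
      exact (isComodHom_iff_dact' u).1 hu φ v
    have hg : ∀ μ, Set.MapsTo (dact (k := k) (A := C) V φ) (N μ) (N μ) := fun μ =>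
      mapsTo_dact (hN μ) φ
    have hu' : ∀ μ, Set.MapsTo u (N μ) (N μ) := fun μ =>
      Module.End.mapsTo_maxGenEigenspace_of_comm (Commute.refl u) μ
    have hgu : ∀ μ, Set.MapsTo (dact (k := k) (A := C) V φ ∘ₗ u) (N μ) (N μ) := fun μ =>
      (hg μ).comp (hu' μ)
    rw [apply_tchi, LinearMap.trace_eq_sum_trace_restrict' hint hfin hgu, map_sum]
    refine Finset.sum_congr rfl fun μ _ => ?_
    rw [map_smul, smul_eq_mul]
    have h1 : φ (χ μ) = LinearMap.trace k (N μ) ((dact (k := k) (A := C) V φ).restrict (hg μ)) := by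
      change φ (@chi k _ C _ _ _ (N μ) _ _ (subComod (N μ) (hN μ)) _) = _
      rw [@apply_chi k _ C _ _ _ (N μ) _ _ (subComod (N μ) (hN μ)) _ φ, dact_sub_eq]
    rw [h1, LinearMap.restrict_comp (hu' μ) (hg μ)]
    have h2 : Commute ((dact (k := k) (A := C) V φ).restrict (hg μ)) (u.restrict (hu' μ)) :=
      LinearMap.restrict_commute hc.symm _ _
    exact LinearMap.trace_comp_eq_mul_of_commute_of_isNilpotent μ h2
      (Module.End.isNilpotent_restrict_maxGenEigenspace_sub_algebraMap u μ)
  rw [key]
  refine Submodule.sum_mem _ fun μ _ => Submodule.smul_mem _ _ (Submodule.subset_span ?_)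
  exact @chi_mem_charSet k _ C _ _ _ (N μ) _ _ (subComod (N μ) (hN μ)) _

end K192.Char

end
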