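import Groth.Agent.HopfRep.K192.Char

/-!
# Characters of pairwise non-isomorphic simple comodules are linearly independent
-/

set_option autoImplicit false

universe u v w w' w''

open TensorProduct HopfRep

noncomputable section

namespace K192.CharIndep

open Groth.Agent.Books.ComodBasic Groth.Agent.Books.ComodHom K192.DualMod K192.Char

variable {k : Type u} [Field k] {C : Type v} [AddCommGroup C] [Module k C] [Coalgebra k C]
  {n : ℕ} (V : Fin n → Type w) [∀ i, AddCommGroup (V i)] [∀ i, Module k (V i)]
  [∀ i, Comod k C (V i)] [∀ i, Module.Finite k (V i)]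

/-- For pairwise non-isomorphic simple comodules there is a functional acting as the identity on
one of them and as zero on the others. -/
theorem exists_functional (hV : ∀ i, IsSimpleComod k C (V i))
    (hne : ∀ i j, i ≠ j → ∀ e : V i ≃ₗ[k] V j, ¬ Hoch.IsComodHom C (e : V i →ₗ[k] V j)) (i : Fin n) :
    ∃ φ : C →ₗ[k] k, ∀ j, dact (V j) φ = if i = j then LinearMap.id else 0 := by
  classical
  have hs : ∀ i, IsSimpleModule (Dl k C) (DM k C (V i)) := fun i => (isSimpleComod_iff k C _).1 (hV i)
  let R := Dl k C
  let M := Π j, DM k C (V j)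
  have hfinM : Module.Finite k M := by
    have : ∀ j, Module.Finite k (DM k C (V j)) := fun j => inferInstanceAs (Module.Finite k (V j))
    infer_instance
  have hzero : ∀ (l j : Fin n), l ≠ j → ∀ g : DM k C (V l) →ₗ[R] DM k C (V j), g = 0 := by
    intro l j hlj g
    by_contra hg
    exact hne l j hlj (ofEquiv (LinearEquiv.ofBijective g (LinearMap.bijective_of_ne_zero hg)))
      (isComodHom_ofEquiv _)
  -- the projection to the `i`-th factor commutes with all endomorphisms
  have hcomm : ∀ (g : Module.End R M) (m : M), (Pi.single i (g m i) : M) = g (Pi.single i (m i)) := by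
    intro g m
    have h1 : ∀ l j : Fin n, l ≠ j → ∀ v : DM k C (V l), g (Pi.single l v) j = 0 := by
      intro l j hlj v
      have := hzero l j hlj (LinearMap.proj j ∘ₗ g ∘ₗ LinearMap.single R (fun j => DM k C (V j)) l)
      exact LinearMap.congr_fun this v
    have h2 : g m = ∑ l, g (Pi.single l (m l)) := by
      rw [← map_sum, Finset.univ_sum_single]
    funext j
    by_cases hj : i = j
    · subst hj
      rw [Pi.single_eq_same, h2, Finset.sum_apply]
      refine Finset.sum_eq_single i (fun l _ hl => h1 l i hl _) (fun h => absurd (Finset.mem_univ i) h)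
    · rw [Pi.single_eq_of_ne (Ne.symm hj), h1 i j hj]
  let f : Module.End (Module.End R M) M :=
    { toFun := fun m => Pi.single i (m i)
      map_add' := fun x y => by rw [Pi.add_apply, Pi.single_add]
      map_smul' := fun g m => hcomm g m }
  let b := Module.finBasis k M
  obtain ⟨r, hr⟩ := jacobson_density f (Finset.univ.image b)
  have hr' : ∀ m : M, (Pi.single i (m i) : M) = r • m := by
    have h1 : ((LinearMap.single k (fun j => DM k C (V j)) i) ∘ₗ LinearMap.proj i : M →ₗ[k] M) =
        LinearMap.pi (fun j => (show DM k C (V j) →ₗ[k] DM k C (V j) from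
          dact (k := k) (A := C) (V j) r.ofConv) ∘ₗ LinearMap.proj j) := by
      refine b.ext fun t => ?_
      exact hr (b t) (Finset.mem_image_of_mem _ (Finset.mem_univ t))
    intro m
    exact LinearMap.congr_fun h1 m
  refine ⟨r.ofConv, fun j => ?_⟩
  ext v
  have h2 := congrFun (hr' (Pi.single j v)) j
  have h3 : (r • (Pi.single j v : M)) j = dact (k := k) (A := C) (V j) r.ofConv v := by
    change r • ((Pi.single j v : M) j) = _
    rw [Pi.single_eq_same]
    rfl
  rw [h3] at h2
  rw [← h2]
  by_cases hj : i = j
  · subst hj
    rw [if_pos rfl, Pi.single_eq_same, Pi.single_eq_same]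
    rfl
  · rw [if_neg hj, Pi.single_eq_of_ne (Ne.symm hj)]
    rfl

/-- Linear independence of characters in characteristic zero. -/
theorem linearIndependent_chi [CharZero k] (hV : ∀ i, IsSimpleComod k C (V i))
    (hne : ∀ i j, i ≠ j → ∀ e : V i ≃ₗ[k] V j, ¬ Hoch.IsComodHom C (e : V i →ₗ[k] V j)) :
    LinearIndependent k (fun i => chi k C (V i)) := by
  classical
  rw [Fintype.linearIndependent_iff]
  intro c hc i
  obtain ⟨φ, hφ⟩ := exists_functional V hV hne i
  have h1 := congrArg φ hc
  rw [map_sum, map_zero, Finset.sum_eq_single i] at h1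
  · rw [map_smul, apply_chi, hφ, if_pos rfl, LinearMap.trace_id, smul_eq_mul, mul_eq_zero] at h1
    rcases h1 with h1 | h1
    · exact h1
    · exfalso
      have := (hV i).1
      have h2 : 0 < Module.finrank k (V i) := Module.finrank_pos
      rw [Nat.cast_eq_zero] at h1
      omega
  · intro j _ hj
    rw [map_smul, apply_chi, hφ, if_neg (Ne.symm hj), map_zero, smul_zero]
  · intro h
    exact absurd (Finset.mem_univ i) h

end K192.CharIndep

end
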