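import Groth.Agent.HopfRep.K192.Char2
import Groth.Agent.HopfRep.K192.TracePow
import Groth.Agent.Books.HopfJordan
import Groth.Agent.Books.CoeffMat
import Mathlib.RingTheory.Polynomial.Vieta
import Mathlib.LinearAlgebra.Eigenspace.Charpoly
import Mathlib.RingTheory.IntegralClosure.IsIntegralClosure.Basic

/-!
# Integrality of characters over the power sums of a faithful representation
-/

set_option autoImplicit false

universe u v w w' w''

open TensorProduct HopfRep
open scoped Pointwise

noncomputable section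

namespace K192.CharInt

section Gen

variable {k : Type u} [Field k] {B : Type v} [CommRing B] [Algebra k B] {T : Module.End k B}

lemma mul_mem_aux (hT : ∀ a b, T (a * b) = T a * T b) (a b : k) :
    ∀ (N p q : ℕ), p + q = N → ∀ x y : B, ((T - a • (1 : Module.End k B)) ^ p) x = 0 →
      ((T - b • (1 : Module.End k B)) ^ q) y = 0 → x * y ∈ T.maxGenEigenspace (a * b) := by
  intro N
  induction N with
  | zero =>
    intro p q hpq x y hx _
    have : p = 0 := by omega
    subst this
    rw [pow_zero, Module.End.one_apply] at hx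
    rw [hx, zero_mul]
    exact zero_mem _
  | succ N ih =>
    intro p q hpq x y hx hy
    rcases Nat.eq_zero_or_pos p with rfl | hp
    · rw [pow_zero, Module.End.one_apply] at hx
      rw [hx, zero_mul]
      exact zero_mem _
    rcases Nat.eq_zero_or_pos q with rfl | hq
    · rw [pow_zero, Module.End.one_apply] at hy
      rw [hy, mul_zero]
      exact zero_mem _
    obtain ⟨p, rfl⟩ : ∃ p', p = p' + 1 := ⟨p - 1, by omega⟩
    obtain ⟨q, rfl⟩ : ∃ q', q = q' + 1 := ⟨q - 1, by omega⟩
    have hTy : ((T - b • (1 : Module.End k B)) ^ (q + 1)) (T y) = 0 := by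
      have hc : Commute ((T - b • (1 : Module.End k B)) ^ (q + 1)) T := by
        refine Commute.pow_left ?_ _
        exact (Commute.refl T).sub_left ((Commute.one_left T).smul_left b)
      have h2 : ((T - b • (1 : Module.End k B)) ^ (q + 1)) (T y) =
          T (((T - b • (1 : Module.End k B)) ^ (q + 1)) y) :=
        LinearMap.congr_fun hc.eq y
      rw [h2, hy, map_zero]
    have hx' : ((T - a • (1 : Module.End k B)) ^ p) ((T - a • (1 : Module.End k B)) x) = 0 := by
      rw [pow_succ] at hx; exact hx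
    have hy' : ((T - b • (1 : Module.End k B)) ^ q) ((T - b • (1 : Module.End k B)) y) = 0 := by
      rw [pow_succ] at hy; exact hy
    have h1 := ih p (q + 1) (by omega) _ _ hx' hTy
    have h2 := ih (p + 1) q (by omega) _ _ hx hy'
    have h3 : (T - (a * b) • (1 : Module.End k B)) (x * y) =
        (T - a • (1 : Module.End k B)) x * T y + a • (x * (T - b • (1 : Module.End k B)) y) := by
      simp only [LinearMap.sub_apply, LinearMap.smul_apply, Module.End.one_apply, hT]
      simp only [Algebra.smul_def, map_mul]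
      ring
    have h4 : (T - (a * b) • (1 : Module.End k B)) (x * y) ∈ T.maxGenEigenspace (a * b) := by
      rw [h3]
      exact Submodule.add_mem _ h1 (Submodule.smul_mem _ _ h2)
    rw [Module.End.mem_maxGenEigenspace] at h4 ⊢
    obtain ⟨r, hr⟩ := h4
    exact ⟨r + 1, by rw [pow_succ]; exact hr⟩

lemma mul_mem_maxGen (hT : ∀ a b, T (a * b) = T a * T b) {a b : k} {x y : B}
    (hx : x ∈ T.maxGenEigenspace a) (hy : y ∈ T.maxGenEigenspace b) :
    x * y ∈ T.maxGenEigenspace (a * b) := by
  rw [Module.End.mem_maxGenEigenspace] at hx hy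
  obtain ⟨p, hp⟩ := hx
  obtain ⟨q, hq⟩ := hy
  exact mul_mem_aux hT a b (p + q) p q rfl x y hp hq

/-- The sum of the generalized eigenspaces with eigenvalue in `S`. -/
def E (T : Module.End k B) (S : Set k) : Submodule k B := ⨆ μ ∈ S, T.maxGenEigenspace μ

lemma maxGen_le_E {S : Set k} {μ : k} (hμ : μ ∈ S) : T.maxGenEigenspace μ ≤ E T S :=
  le_iSup₂_of_le μ hμ le_rfl

lemma E_mono {S S' : Set k} (h : S ⊆ S') : E T S ≤ E T S' :=
  iSup₂_le fun _ hμ => maxGen_le_E (h hμ)

lemma E_mul_le (hT : ∀ a b, T (a * b) = T a * T b) (S S' : Set k) :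
    E T S * E T S' ≤ E T (S * S') := by
  have h1 : ∀ μ ∈ S, ∀ x ∈ T.maxGenEigenspace μ, ∀ y ∈ E T S', x * y ∈ E T (S * S') := by
    intro μ hμ x hx
    have : E T S' ≤ (E T (S * S')).comap (LinearMap.mulLeft k x) :=
      iSup₂_le fun ν hν y hy => maxGen_le_E (Set.mul_mem_mul hμ hν) (mul_mem_maxGen hT hx hy)
    exact fun y hy => this hy
  rw [Submodule.mul_le]
  intro x hx y hy
  have h2 : E T S ≤ (E T (S * S')).comap (LinearMap.mulRight k y) :=
    iSup₂_le fun μ hμ x hx => h1 μ hμ x hx y hy
  exact h2 hx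

lemma E_pow_le (hT : ∀ a b, T (a * b) = T a * T b) (h1 : T 1 = 1) (S : Set k) (D : ℕ) :
    E T S ^ D ≤ E T (S ^ D) := by
  induction D with
  | zero =>
    rw [pow_zero, pow_zero, Submodule.one_le]
    refine maxGen_le_E (Set.mem_one.2 rfl) ?_
    rw [Module.End.mem_maxGenEigenspace]
    exact ⟨1, by simp [h1]⟩
  | succ D ih =>
    rw [pow_succ, pow_succ]
    exact (mul_le_mul' ih le_rfl).trans (E_mul_le hT _ _)

lemma mem_of_eigen {S : Set k} {c : B} (hc : c ∈ E T S) (hc0 : c ≠ 0) {μ : k}
    (hμ : T c = μ • c) : μ ∈ S := by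
  by_contra h
  have hind := Module.End.independent_maxGenEigenspace T
  have h1 : c ∈ T.maxGenEigenspace μ := by
    rw [Module.End.mem_maxGenEigenspace]
    exact ⟨1, by simp [hμ]⟩
  have h2 : E T S ≤ ⨆ ν, ⨆ (_ : ν ≠ μ), T.maxGenEigenspace ν :=
    iSup₂_le fun ν hν => le_iSup₂_of_le ν (fun h' => h (h' ▸ hν)) le_rfl
  exact hc0 ((Submodule.disjoint_def.1 (hind μ)) c h1 (h2 hc))

variable {n : ℕ}

/-- Entries of a matrix on which `T` acts through a scalar matrix. -/
lemma mem_E_of_matrix [IsAlgClosed k] (v : Fin n → B) (N : Matrix (Fin n) (Fin n) k)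
    (hN : ∀ j, T (v j) = ∑ l, N l j • v l) (j : Fin n) :
    v j ∈ E T {μ | N.charpoly.IsRoot μ} := by
  classical
  let Φ : (Fin n → k) →ₗ[k] B := Fintype.linearCombination k v
  let f : Module.End k (Fin n → k) := Matrix.toLin' N
  have hΦ : ∀ w, T (Φ w) = Φ (f w) := by
    intro w
    have : (T ∘ₗ Φ) = Φ ∘ₗ f := by
      refine (Pi.basisFun k (Fin n)).ext fun j => ?_
      simp only [LinearMap.comp_apply, Pi.basisFun_apply, Φ, f]
      rw [Fintype.linearCombination_apply_single, one_smul, hN, Matrix.toLin'_apply,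
        Matrix.mulVec_single_one, Fintype.linearCombination_apply]
      rfl
    exact LinearMap.congr_fun this w
  have hpow : ∀ (μ : k) (p : ℕ) (w : Fin n → k),
      ((T - μ • (1 : Module.End k B)) ^ p) (Φ w) =
        Φ (((f - μ • (1 : Module.End k (Fin n → k))) ^ p) w) := by
    intro μ p
    induction p with
    | zero => intro w; rfl
    | succ p ih =>
      intro w
      rw [pow_succ, pow_succ, Module.End.mul_apply, Module.End.mul_apply, ← ih]
      congr 1
      simp [hΦ]
  have htop := Module.End.iSup_maxGenEigenspace_eq_top f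
  have h1 : (⨆ μ, f.maxGenEigenspace μ).map Φ ≤ E T {μ | N.charpoly.IsRoot μ} := by
    rw [Submodule.map_iSup]
    refine iSup_le fun μ => ?_
    by_cases hμ : N.charpoly.IsRoot μ
    · refine le_trans ?_ (maxGen_le_E hμ)
      rintro _ ⟨w, hw, rfl⟩
      have hw' : w ∈ f.maxGenEigenspace μ := hw
      rw [Module.End.mem_maxGenEigenspace] at hw' ⊢
      obtain ⟨p, hp⟩ := hw'
      exact ⟨p, by rw [hpow, hp, map_zero]⟩
    · have h2 : f.maxGenEigenspace μ = ⊥ := by
        rw [← Submodule.finrank_eq_zero (R := k)]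
        rw [LinearMap.finrank_maxGenEigenspace_eq, Matrix.charpoly_toLin']
        exact Polynomial.rootMultiplicity_eq_zero hμ
      rw [h2, Submodule.map_bot]
      exact bot_le
  have h3 : Φ (Pi.single j 1) = v j := by
    simp only [Φ]
    rw [Fintype.linearCombination_apply_single, one_smul]
  rw [← h3]
  refine h1 ⟨Pi.single j 1, ?_, rfl⟩
  rw [htop]
  trivial

end Gen

section Span

variable {k : Type u} [Field k] {B : Type v} [CommRing B] [Algebra k B]

lemma exists_mem_pow (s : Set B) (hs : Algebra.adjoin k s = ⊤) (b : B) :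
    ∃ D : ℕ, b ∈ ((1 : Submodule k B) ⊔ Submodule.span k s) ^ D := by
  have hb : b ∈ Algebra.adjoin k s := by rw [hs]; trivial
  set U : Submodule k B := (1 : Submodule k B) ⊔ Submodule.span k s with hU
  have h1 : (1 : Submodule k B) ≤ U := le_sup_left
  have hmono : ∀ {D D' : ℕ}, D ≤ D' → U ^ D ≤ U ^ D' := fun h => pow_le_pow_right₀ h1 h
  induction hb using Algebra.adjoin_induction with
  | mem x hx =>
    refine ⟨1, ?_⟩
    rw [pow_one]
    exact (le_sup_right : Submodule.span k s ≤ U) (Submodule.subset_span hx)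
  | algebraMap r =>
    refine ⟨0, ?_⟩
    rw [pow_zero]
    exact Submodule.algebraMap_mem r
  | add x y _ _ hx hy =>
    obtain ⟨D, hD⟩ := hx
    obtain ⟨D', hD'⟩ := hy
    exact ⟨max D D', Submodule.add_mem _ (hmono (le_max_left _ _) hD)
      (hmono (le_max_right _ _) hD')⟩
  | mul x y _ _ hx hy =>
    obtain ⟨D, hD⟩ := hx
    obtain ⟨D', hD'⟩ := hy
    refine ⟨D + D', ?_⟩
    rw [pow_add]
    exact Submodule.mul_mem_mul hD hD'

lemma exists_mem_pow_of_finite (s : Set B) (hs : Algebra.adjoin k s = ⊤) {ι : Type*} [Finite ι]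
    (b : ι → B) : ∃ D : ℕ, ∀ i, b i ∈ ((1 : Submodule k B) ⊔ Submodule.span k s) ^ D := by
  classical
  cases nonempty_fintype ι
  choose D hD using fun i => exists_mem_pow s hs (b i)
  refine ⟨Finset.univ.sup D, fun i => ?_⟩
  exact pow_le_pow_right₀ (le_sup_left : (1 : Submodule k B) ≤ _)
    (Finset.le_sup (Finset.mem_univ i)) (hD i)

end Span

section Main

open Groth.Agent.Books.ComodBasic Groth.Agent.Books.ComodHom Groth.Agent.Books.CoeffMat
open Groth.Agent.Books.HopfJordan K192.DualMod K192.Char

variable {k : Type u} [Field k] {B : Type v} [CommRing B] [Bialgebra k B]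
  {n : ℕ} {M : Matrix (Fin n) (Fin n) B}

/-- All entries of the matrix. -/
def entries (M : Matrix (Fin n) (Fin n) B) : Set B := Set.range fun p : Fin n × Fin n => M p.1 p.2

lemma dact_entry (hM : IsMult k M) (h : B →ₐ[k] k) (i j : Fin n) :
    dact B h.toLinearMap (M i j) = ∑ l, (M.map h) l j • M i l := by
  rw [dact_apply]
  change slice B h.toLinearMap (CoalgebraStruct.comul (R := k) (M i j)) = _
  rw [hM.comul, map_sum]
  refine Finset.sum_congr rfl fun l _ => ?_
  simp [slice]

variable [IsAlgClosed k]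

/-- The eigenvalues of a point on a comodule are monomials of bounded degree in the eigenvalues
on a generating comodule. -/
theorem eigen_mem (hM : IsMult k M) {W : Type w} [AddCommGroup W] [Module k W] [Comod k B W]
    [Module.Finite k W] {D : ℕ} {ι : Type*} [Fintype ι] (b : Module.Basis ι k W)
    (hD : ∀ i j, coeffMap B (b.coord i) (b j) ∈
      ((1 : Submodule k B) ⊔ Submodule.span k (entries M)) ^ D)
    (h : B →ₐ[k] k) {μ : k} (hμ : (dact W h.toLinearMap : Module.End k W).charpoly.IsRoot μ) :
    μ ∈ (insert 1 {ν | (M.map h).charpoly.IsRoot ν} : Set k) ^ D := by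
  set S : Set k := insert 1 {ν | (M.map h).charpoly.IsRoot ν} with hS
  have hmul : ∀ a c, (dact B h.toLinearMap : Module.End k B) (a * c) =
      (dact B h.toLinearMap : Module.End k B) a * (dact B h.toLinearMap : Module.End k B) c :=
    dact_point_mul h
  have hone : (dact B h.toLinearMap : Module.End k B) 1 = 1 := dact_point_one h
  obtain ⟨w, hw⟩ := ((Module.End.hasEigenvalue_iff_isRoot_charpoly _ _).2 hμ).exists_hasEigenvector
  have hw1 : dact W h.toLinearMap w = μ • w := hw.apply_eq_smul
  obtain ⟨i, hi⟩ : ∃ i, b.coord i w ≠ 0 := by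
    by_contra hcon
    push Not at hcon
    exact hw.2 (b.ext_elem fun i => by simpa using hcon i)
  set c : B := coeffMap B (b.coord i) w with hc
  have hc0 : c ≠ 0 := by
    intro h0
    apply hi
    rw [← counit_coeffMap (A := B) (b.coord i) w, ← hc, h0, map_zero]
  have hTc : (dact B h.toLinearMap : Module.End k B) c = μ • c := by
    have h1 := (isComodHom_iff_dact (k := k) (A := B) (coeffMap B (b.coord i))).1
      (isComodHom_coeffMap (k := k) (A := B) (b.coord i)) h.toLinearMap w
    rw [hc, ← h1, hw1, map_smul]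
  have hcU : c ∈ ((1 : Submodule k B) ⊔ Submodule.span k (entries M)) ^ D := by
    rw [hc, ← b.sum_repr w, map_sum]
    refine Submodule.sum_mem _ fun j _ => ?_
    rw [map_smul]
    exact Submodule.smul_mem _ _ (hD i j)
  have hle : ((1 : Submodule k B) ⊔ Submodule.span k (entries M)) ≤
      E (dact B h.toLinearMap : Module.End k B) S := by
    refine sup_le ?_ ?_
    · rw [Submodule.one_le]
      refine maxGen_le_E (Set.mem_insert _ _) ?_
      rw [Module.End.mem_maxGenEigenspace]
      exact ⟨1, by simp [hone]⟩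
    · rw [Submodule.span_le]
      rintro _ ⟨⟨i, j⟩, rfl⟩
      exact E_mono (Set.subset_insert _ _) (mem_E_of_matrix (T := dact B h.toLinearMap)
        (fun j => M i j) (M.map h) (fun j => dact_entry hM h i j) j)
  have hcE : c ∈ E (dact B h.toLinearMap : Module.End k B) (S ^ D) :=
    E_pow_le hmul hone S D (pow_le_pow_left' hle D hcU)
  exact mem_of_eigen hcE hc0 hTc

end Main

section Newton

variable {k : Type u} [Field k] [CharZero k]

/-- Elements whose power sums come from `C₀` are integral over `C₀`. -/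
theorem isIntegral_of_psum {C₀ : Type v} {R : Type w} [CommRing C₀] [Algebra k C₀] [CommRing R]
    [Algebra k R] [Algebra C₀ R] [IsScalarTower k C₀ R] {n : ℕ} (x : Fin n → R)
    (hx : ∀ j, j < n → ∑ i, x i ^ (j + 1) ∈ (algebraMap C₀ R).range) (i : Fin n) :
    IsIntegral C₀ (x i) := by
  classical
  have h1 : ∀ j ≤ n, MvPolynomial.aeval x (MvPolynomial.esymm (Fin n) k j) ∈
      (IsScalarTower.toAlgHom k C₀ R).range := by
    intro j hj
    have h2 := K192.TracePow.esymm_mem_adjoin_psum k (Fin n) j (by simpa using hj)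
    have h3 : Algebra.adjoin k (Set.range fun j : Fin (Fintype.card (Fin n)) =>
        MvPolynomial.psum (Fin n) k (j + 1)) ≤
        (IsScalarTower.toAlgHom k C₀ R).range.comap (MvPolynomial.aeval x) := by
      rw [Algebra.adjoin_le_iff]
      rintro _ ⟨j, rfl⟩
      change MvPolynomial.aeval x (MvPolynomial.psum (Fin n) k (j + 1)) ∈
        (IsScalarTower.toAlgHom k C₀ R).range
      have h4 : MvPolynomial.aeval x (MvPolynomial.psum (Fin n) k (j + 1)) =
          ∑ i, x i ^ ((j : ℕ) + 1) := by
        simp [MvPolynomial.psum]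
      rw [h4]
      obtain ⟨c, hc⟩ := hx j (by simpa using j.2)
      exact ⟨c, hc⟩
    exact h3 h2
  let P : Polynomial R :=
    ((Finset.univ.val.map x).map fun t => Polynomial.X - Polynomial.C t).prod
  have hcard : Multiset.card (Finset.univ.val.map x) = n := by simp
  have hP : P.Monic := Polynomial.monic_multiset_prod_of_monic _ _ fun t _ =>
    Polynomial.monic_X_sub_C t
  have hroot : P.eval (x i) = 0 := by
    simp only [P]
    rw [Polynomial.eval_multiset_prod, Multiset.map_map, Multiset.map_map]
    refine Multiset.prod_eq_zero (Multiset.mem_map.2 ⟨i, Finset.mem_univ_val i, ?_⟩)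
    simp
  have hdeg : P.natDegree ≤ n := by
    have := Polynomial.natDegree_multiset_prod_le
      ((Finset.univ.val.map x).map fun t => Polynomial.X - Polynomial.C t)
    refine this.trans ?_
    rw [Multiset.map_map]
    refine (Multiset.sum_le_card_nsmul _ 1 ?_).trans ?_
    · intro d hd
      rw [Multiset.mem_map] at hd
      obtain ⟨t, -, rfl⟩ := hd
      exact Polynomial.natDegree_X_sub_C_le t
    · simp
  have hlift : P ∈ Polynomial.lifts (algebraMap C₀ R) := by
    rw [Polynomial.lifts_iff_coeff_lifts]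
    intro m
    by_cases hm : m ≤ n
    · simp only [P]
      rw [Multiset.prod_X_sub_C_coeff _ (by rw [hcard]; exact hm), hcard,
        ← MvPolynomial.aeval_esymm_eq_multiset_esymm (Fin n) k (n - m) x]
      obtain ⟨c, hc⟩ := h1 (n - m) (by omega)
      refine ⟨(-1) ^ (n - m) * c, ?_⟩
      rw [map_mul, map_pow, map_neg, map_one]
      congr 1
    · rw [Polynomial.coeff_eq_zero_of_natDegree_lt (by omega)]
      exact ⟨0, map_zero _⟩
  obtain ⟨q, hq1, -, hq3⟩ := Polynomial.lifts_and_natDegree_eq_and_monic hlift hP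
  refine ⟨q, hq3, ?_⟩
  rw [Polynomial.eval₂_eq_eval_map, hq1]
  exact hroot

end Newton

section Final

open Groth.Agent.Books.ComodBasic Groth.Agent.Books.ComodHom Groth.Agent.Books.CoeffMat
open Groth.Agent.Books.HopfJordan K192.DualMod K192.Char

variable {k : Type u} [Field k] [IsAlgClosed k] [CharZero k] {B : Type v} [CommRing B]
  [Bialgebra k B] {n : ℕ} {M : Matrix (Fin n) (Fin n) B}

/-- The subalgebra generated by the power sums. -/
def psAlg (k : Type u) [Field k] {B : Type v} [CommRing B] [Algebra k B] {n : ℕ}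
    (M : Matrix (Fin n) (Fin n) B) : Subalgebra k B :=
  Algebra.adjoin k (Set.range fun j : Fin n => (M ^ ((j : ℕ) + 1)).trace)

lemma prod_mem_integralClosure {C₀ : Type*} {R : Type*} [CommRing C₀] [CommRing R] [Algebra C₀ R]
    {X : Set R} (hX : ∀ x ∈ X, IsIntegral C₀ x) (D : ℕ) : ∀ x ∈ X ^ D, IsIntegral C₀ x := by
  induction D with
  | zero =>
    intro x hx
    rw [pow_zero, Set.mem_one] at hx
    rw [hx]
    exact isIntegral_one
  | succ D ih =>
    intro x hx
    rw [pow_succ, Set.mem_mul] at hx
    obtain ⟨y, hy, z, hz, rfl⟩ := hx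
    exact (ih y hy).mul (hX z hz)

lemma finite_pow {R : Type*} [Monoid R] {X : Set R} (hX : X.Finite) (D : ℕ) : (X ^ D).Finite := by
  induction D with
  | zero => rw [pow_zero]; exact Set.finite_singleton 1
  | succ D ih => rw [pow_succ]; exact ih.mul hX

/-- Characters are integral over the power sums. -/
theorem isIntegral_chi (hsep : ∀ b : B, (∀ h : B →ₐ[k] k, h b = 0) → b = 0) (hM : IsMult k M)
    (hgen : Algebra.adjoin k (entries M) = ⊤) (W : Type w) [AddCommGroup W] [Module k W]
    [Comod k B W] [Module.Finite k W] : IsIntegral (psAlg k M) (chi k B W) := by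
  classical
  let R := (B →ₐ[k] k) → k
  let e : B →ₐ[k] R := AlgHom.pi fun h => h
  let _ : Algebra (psAlg k M) R := ((e : B →+* R).comp (algebraMap (psAlg k M) B)).toAlgebra
  have hst : IsScalarTower k (psAlg k M) R := IsScalarTower.of_algebraMap_eq fun r => by
    change _ = e (algebraMap k B r)
    rw [AlgHom.commutes]
  let eC : B →ₐ[psAlg k M] R := { (e : B →+* R) with commutes' := fun _ => rfl }
  have heC : Function.Injective eC := by
    rw [injective_iff_map_eq_zero]
    intro b hb
    exact hsep b fun h => congrFun hb h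
  rw [← isIntegral_algHom_iff eC heC]
  -- enumerate eigenvalues
  choose x hx1 hx2 hx3 using fun h : B →ₐ[k] k => K192.TracePow.exists_enum (M.map h)
  let X : Fin n → R := fun i h => x h i
  have hXint : ∀ i, IsIntegral (psAlg k M) (X i) := by
    refine isIntegral_of_psum (k := k) X fun j hj => ?_
    refine ⟨⟨(M ^ (j + 1)).trace, Algebra.subset_adjoin ⟨⟨j, hj⟩, rfl⟩⟩, ?_⟩
    change e ((M ^ (j + 1)).trace) = _
    ext h
    have h1 : h ((M ^ (j + 1)).trace) = ((M.map h) ^ (j + 1)).trace := by
      have h0 : (M.map h) ^ (j + 1) = (M ^ (j + 1)).map h :=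
        (Matrix.map_pow M (h : B →+* k) (j + 1)).symm
      rw [h0, Matrix.trace, Matrix.trace, map_sum]
      rfl
    change h ((M ^ (j + 1)).trace) = _
    rw [h1, hx1, Finset.sum_apply]
    rfl
  obtain ⟨D, hD⟩ := exists_mem_pow_of_finite (k := k) (entries M) hgen
    (fun p : Fin (Module.finrank k W) × Fin (Module.finrank k W) =>
      coeffMap B ((Module.finBasis k W).coord p.1) (Module.finBasis k W p.2))
  let Y : Set R := (insert 1 (Set.range X)) ^ D
  have hYint : ∀ y ∈ Y, IsIntegral (psAlg k M) y := by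
    refine prod_mem_integralClosure ?_ D
    rintro y (rfl | ⟨i, rfl⟩)
    · exact isIntegral_one
    · exact hXint i
  have hYfin : Y.Finite := finite_pow ((Set.finite_range X).insert 1) D
  have : Finite Y := hYfin
  have : Fintype Y := Fintype.ofFinite Y
  -- eigenvalues of the points on `W`
  have key : ∀ h : B →ₐ[k] k, ∃ α : Fin (Module.finrank k W) → Y,
      h (chi k B W) = ∑ i, (α i : R) h := by
    intro h
    obtain ⟨y, hy1, -, hy3⟩ := K192.TracePow.exists_enum_end
      (dact W h.toLinearMap : Module.End k W) rfl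
    have h2 : ∀ i, ∃ z : Y, (z : R) h = y i := by
      intro i
      have h3 := eigen_mem hM (Module.finBasis k W) (fun i j => hD (i, j)) h (hy3 i)
      have h4 : (insert 1 {ν | (M.map h).charpoly.IsRoot ν} : Set k) ⊆
          (Pi.evalRingHom (fun _ : B →ₐ[k] k => k) h) '' (insert 1 (Set.range X)) := by
        rintro ν (rfl | hν)
        · exact ⟨1, Set.mem_insert _ _, rfl⟩
        · obtain ⟨i, hi⟩ := hx2 h ν hν
          exact ⟨X i, Set.mem_insert_of_mem _ ⟨i, rfl⟩, hi⟩
      have h5 := Set.pow_subset_pow_left (n := D) h4 h3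
      rw [← Set.image_pow] at h5
      obtain ⟨z, hz, hz'⟩ := h5
      exact ⟨⟨z, hz⟩, hz'⟩
    choose α hα using h2
    refine ⟨α, ?_⟩
    have h6 := apply_chi (k := k) (C := B) (V := W) h.toLinearMap
    have h7 := hy1 1
    simp only [pow_one] at h7
    change h.toLinearMap (chi k B W) = _
    rw [h6, h7]
    exact Finset.sum_congr rfl fun i _ => (hα i).symm
  -- the polynomial
  let I := integralClosure (psAlg k M) R
  have hsI : ∀ α : Fin (Module.finrank k W) → Y, (∑ i, (α i : R)) ∈ I := fun α =>
    Subalgebra.sum_mem _ fun i _ => hYint _ (α i).2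
  have hI : IsIntegral I (eC (chi k B W)) := by
    refine ⟨∏ α : Fin (Module.finrank k W) → Y,
      (Polynomial.X - Polynomial.C (⟨∑ i, (α i : R), hsI α⟩ : I)),
      Polynomial.monic_prod_of_monic _ _ fun α _ => Polynomial.monic_X_sub_C _, ?_⟩
    rw [Polynomial.eval₂_finsetProd]
    ext h
    obtain ⟨α, hα⟩ := key h
    rw [Finset.prod_apply]
    refine Finset.prod_eq_zero (Finset.mem_univ α) ?_
    rw [Polynomial.eval₂_sub, Polynomial.eval₂_X, Polynomial.eval₂_C]
    change h (chi k B W) - (∑ i, (α i : R)) h = 0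
    rw [hα, Finset.sum_apply, sub_self]
  exact isIntegral_trans _ hI

end Final

end K192.CharInt
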