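import Groth.Agent.HopfRep.K192.Char2
import Groth.Agent.HopfRep.K192.TracePow
import Groth.Agent.Sga3C.MatComod

/-!
# Power sums of a multiplicative matrix are combinations of characters
-/

set_option autoImplicit false

universe u v w w' w''

open TensorProduct HopfRep

noncomputable section

namespace K192.CharPow

open Groth.Agent.Books.ComodBasic Groth.Agent.Books.ComodHom K192.DualMod K192.Char
open Groth.Agent.Sga3C.MatComod

variable {k : Type u} [Field k] {A : Type v} [CommRing A] [Bialgebra k A]
  {ι : Type} [Fintype ι] [DecidableEq ι]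

/-- permuting the tensor factors -/
def permMap (k : Type u) [Field k] (ι : Type) [Fintype ι] [DecidableEq ι] {r : ℕ}
    (σ : Equiv.Perm (Fin r)) : ((Fin r → ι) → k) →ₗ[k] ((Fin r → ι) → k) :=
  (Pi.basisFun k (Fin r → ι)).constr k (fun f => Pi.single (fun i => f (σ i)) (1 : k))

lemma permMap_single {r : ℕ} (σ : Equiv.Perm (Fin r)) (f : Fin r → ι) :
    permMap k ι σ (Pi.single f 1) = Pi.single (fun i => f (σ i)) 1 := by
  rw [permMap, ← Pi.basisFun_apply k _ f, Module.Basis.constr_basis]

/-- `∑_g ∏_i a (g i) (g (σ i))` is a combination of characters. -/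
theorem sum_prod_mem_span [IsAlgClosed k] {a : ι → ι → A} (ha : IsMult k a) {r : ℕ}
    (σ : Equiv.Perm (Fin r)) :
    ∑ g : Fin r → ι, ∏ i, a (g i) (g (σ i)) ∈ Submodule.span k (charSet k A) := by
  have hT := IsMult.tensorPow (κ := Fin r) ha
  let c : Comod k A ((Fin r → ι) → k) := hT.comod
  have hco : ∀ g : Fin r → ι, Comod.coact (k := k) (A := A) (Pi.single g (1 : k) : (Fin r → ι) → k) =
      ∑ f : Fin r → ι, (Pi.single f (1 : k) : (Fin r → ι) → k) ⊗ₜ[k] ∏ i, a (f i) (g i) := fun g =>
    coactOf_single k _ g
  have hu : Hoch.IsComodHom A (permMap k ι σ) := by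
    have key : (Comod.coact (k := k) (A := A)) ∘ₗ (permMap k ι σ) =
        (permMap k ι σ).rTensor A ∘ₗ (Comod.coact (k := k) (A := A)) := by
      refine (Pi.basisFun k (Fin r → ι)).ext fun g => ?_
      simp only [Pi.basisFun_apply, LinearMap.comp_apply]
      rw [permMap_single, hco, hco, map_sum]
      simp only [LinearMap.rTensor_tmul, permMap_single]
      let e : (Fin r → ι) ≃ (Fin r → ι) := Equiv.arrowCongr σ.symm (Equiv.refl ι)
      rw [← e.sum_comp]
      refine Finset.sum_congr rfl fun f _ => ?_
      have he : e f = fun i => f (σ i) := by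
        ext i; simp [e, Equiv.arrowCongr]
      rw [he]
      congr 1
      exact Equiv.prod_comp σ (fun i => a (f i) (g i))
    exact key
  have h1 := tchi_mem_span (C := A) hu
  have h2 : tchi A (permMap k ι σ) = ∑ g : Fin r → ι, ∏ i, a (g i) (g (σ i)) := by
    rw [tchi_eq_sum A (Pi.basisFun k (Fin r → ι))]
    refine Finset.sum_congr rfl fun g _ => ?_
    rw [Pi.basisFun_apply, permMap_single, coeffMap_apply, hco, map_sum, map_sum]
    rw [Finset.sum_eq_single g]
    · simp
    · intro f _ hf
      simp [hf.symm]
    · simp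
  rw [← h2]
  exact h1

/-- The power sums of a multiplicative matrix are combinations of characters. -/
theorem trace_pow_mem_span [IsAlgClosed k] {a : ι → ι → A} (ha : IsMult k a) (r : ℕ) :
    ((Matrix.of a) ^ (r + 1)).trace ∈ Submodule.span k (charSet k A) := by
  rw [K192.TracePow.trace_pow_succ]
  exact sum_prod_mem_span ha (finRotate (r + 1))

end K192.CharPow
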