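import Mathlib.RingTheory.SimpleModule.IsAlgClosed
import Mathlib.LinearAlgebra.Trace
import Mathlib.LinearAlgebra.Matrix.Trace
import Mathlib.Data.Matrix.Basis
import Mathlib.RingTheory.SimpleModule.Basic

/-!
# Trace functions on a semisimple algebra of endomorphisms

Let `V` be a finite-dimensional vector space over an algebraically closed field of characteristic
zero and `R ⊆ End V` a subalgebra such that `V` is a semisimple `R`-module.  Every linear form
`g` on `R` with `g (r s) = g (s r)` is `r ↦ trace (r u)` for a central element `u` of `R`.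
-/

set_option autoImplicit false

universe u v w

noncomputable section

namespace K192.TraceFn

section Matrix

variable {k : Type u} [Field k]

/-- A trace function on a matrix algebra is a multiple of the trace. -/
theorem mat_eq_trace {m : Type*} [Fintype m] [DecidableEq m] (a : m) (g : Matrix m m k →ₗ[k] k)
    (hg : ∀ x y, g (x * y) = g (y * x)) (x : Matrix m m k) :
    g x = g (Matrix.single a a 1) * x.trace := by
  have h1 : ∀ (i j : m) (c : k),
      g (Matrix.single i j c) = if i = j then g (Matrix.single a a 1) * c else 0 := by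
    intro i j c
    have e1 : Matrix.single i j c = Matrix.single i a c * Matrix.single a j (1 : k) := by
      rw [Matrix.single_mul_single_same, mul_one]
    rw [e1, hg]
    by_cases h : i = j
    · subst h
      rw [if_pos rfl, Matrix.single_mul_single_same, one_mul]
      have : Matrix.single a a c = c • Matrix.single a a (1 : k) := by
        rw [Matrix.smul_single, smul_eq_mul, mul_one]
      rw [this, map_smul, smul_eq_mul, mul_comm]
    · rw [if_neg h, Matrix.single_mul_single_of_ne _ _ _ _ (Ne.symm h), map_zero]
  generalize g (Matrix.single a a 1) = γ at h1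
  conv_lhs => rw [Matrix.matrix_eq_sum_single x]
  simp only [map_sum, h1, Finset.sum_ite_eq, Finset.mem_univ, if_true]
  rw [Matrix.trace, Finset.mul_sum]
  rfl

variable {n : ℕ} {d : Fin n → ℕ} [∀ i, NeZero (d i)]

/-- The matrix unit at `(0,0)` of the `i`-th factor. -/
def unit0 (k : Type u) [Field k] {n : ℕ} (d : Fin n → ℕ) [∀ i, NeZero (d i)] (i : Fin n) :
    Π i, Matrix (Fin (d i)) (Fin (d i)) k := Pi.single i (Matrix.single 0 0 1)

lemma unit0_mul_self (i : Fin n) : unit0 k d i * unit0 k d i = unit0 k d i := by
  rw [unit0, ← Pi.single_mul, Matrix.single_mul_single_same, one_mul]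

lemma unit0_ne_zero (i : Fin n) : unit0 k d i ≠ 0 := by
  intro h
  have h1 := congrFun (congrFun (congrFun h i) 0) 0
  simp [unit0] at h1

/-- A trace function on a product of matrix algebras is a combination of the traces. -/
theorem eq_sum_trace (g : (Π i, Matrix (Fin (d i)) (Fin (d i)) k) →ₗ[k] k)
    (hg : ∀ x y, g (x * y) = g (y * x)) (x : Π i, Matrix (Fin (d i)) (Fin (d i)) k) :
    g x = ∑ i, g (unit0 k d i) * (x i).trace := by
  classical
  have hx : x = ∑ i, Pi.single i (x i) := (Finset.univ_sum_single x).symm
  conv_lhs => rw [hx]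
  rw [map_sum]
  refine Finset.sum_congr rfl fun i _ => ?_
  let gi : Matrix (Fin (d i)) (Fin (d i)) k →ₗ[k] k :=
    g ∘ₗ LinearMap.single k (fun i => Matrix (Fin (d i)) (Fin (d i)) k) i
  have h1 := mat_eq_trace (0 : Fin (d i)) gi (fun x y => by
    change g (Pi.single i (x * y)) = g (Pi.single i (y * x))
    rw [Pi.single_mul, Pi.single_mul, hg]) (x i)
  exact h1

end Matrix

section Main

variable {k : Type u} [Field k] [IsAlgClosed k] [CharZero k]
  {V : Type v} [AddCommGroup V] [Module k V] [Module.Finite k V]

/-- Trace functions on a subalgebra of `End V` for which `V` is semisimple. -/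
theorem exists_central (R : Subalgebra k (Module.End k V)) (hV : IsSemisimpleModule R V)
    (g : R →ₗ[k] k) (hg : ∀ x y, g (x * y) = g (y * x)) :
    ∃ u : R, (∀ x : R, u * x = x * u) ∧
      ∀ x : R, g x = LinearMap.trace k V ((x : Module.End k V) ∘ₗ (u : Module.End k V)) := by
  classical
  let b := Module.finBasis k V
  -- `R` is a semisimple ring
  let j : R →ₗ[R] (Fin (Module.finrank k V) → V) := LinearMap.pi fun i => LinearMap.toSpanSingleton R V (b i)
  have hj : Function.Injective j := by
    intro x y hxy
    apply Subtype.ext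
    refine b.ext fun i => ?_
    exact congrFun hxy i
  have hR : IsSemisimpleRing R := IsSemisimpleModule.of_injective j hj
  obtain ⟨n, d, hd, ⟨e⟩⟩ := IsSemisimpleRing.exists_algEquiv_pi_matrix_of_isAlgClosed k R
  let g' : (Π i, Matrix (Fin (d i)) (Fin (d i)) k) →ₗ[k] k := g ∘ₗ e.symm.toLinearMap
  have hg' : ∀ x y, g' (x * y) = g' (y * x) := fun x y => by
    change g (e.symm (x * y)) = g (e.symm (y * x))
    rw [map_mul e.symm, map_mul e.symm, hg]
  let t : (Π i, Matrix (Fin (d i)) (Fin (d i)) k) →ₗ[k] k :=
    LinearMap.trace k V ∘ₗ R.val.toLinearMap ∘ₗ e.symm.toLinearMap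
  have ht_apply : ∀ x, t x = LinearMap.trace k V ((e.symm x : R) : Module.End k V) := fun _ => rfl
  have ht : ∀ x y, t (x * y) = t (y * x) := fun x y => by
    rw [ht_apply, ht_apply, map_mul e.symm, map_mul e.symm]
    exact LinearMap.trace_mul_comm k _ _
  have ht0 : ∀ i, t (unit0 k d i) ≠ 0 := by
    intro i h0
    rw [ht_apply] at h0
    have hid : IsIdempotentElem ((e.symm (unit0 k d i) : R) : Module.End k V) := by
      change ((e.symm (unit0 k d i) : R) : Module.End k V) * ((e.symm (unit0 k d i) : R) : Module.End k V) = _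
      rw [← Subalgebra.coe_mul, ← map_mul, unit0_mul_self]
    have h1 := (LinearMap.IsIdempotentElem.trace_eq_zero_iff hid).1 h0
    have h2 : e.symm (unit0 k d i) = 0 := Subtype.ext h1
    exact unit0_ne_zero i ((map_eq_zero_iff _ e.symm.injective).1 h2)
  let z : Π i, Matrix (Fin (d i)) (Fin (d i)) k := fun i => (g' (unit0 k d i) / t (unit0 k d i)) • 1
  refine ⟨e.symm z, fun x => ?_, fun x => ?_⟩
  · apply e.injective
    rw [map_mul, map_mul, e.apply_symm_apply]
    funext i
    change ((g' (unit0 k d i) / t (unit0 k d i)) • (1 : Matrix (Fin (d i)) (Fin (d i)) k)) * e x i =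
      e x i * ((g' (unit0 k d i) / t (unit0 k d i)) • (1 : Matrix (Fin (d i)) (Fin (d i)) k))
    rw [smul_mul_assoc, mul_smul_comm, one_mul, mul_one]
  · have h1 : g x = g' (e x) := by
      change g x = g (e.symm (e x))
      rw [e.symm_apply_apply]
    have h2 : LinearMap.trace k V ((x : Module.End k V) ∘ₗ ((e.symm z : R) : Module.End k V)) =
        t (e x * z) := by
      rw [ht_apply, map_mul, e.symm_apply_apply]
      rfl
    rw [h1, h2, eq_sum_trace g' hg', eq_sum_trace t ht]
    refine Finset.sum_congr rfl fun i _ => ?_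
    have h3 : (e x * z) i = (g' (unit0 k d i) / t (unit0 k d i)) • e x i := by
      change e x i * ((g' (unit0 k d i) / t (unit0 k d i)) • (1 : Matrix (Fin (d i)) (Fin (d i)) k)) = _
      rw [mul_smul_comm, mul_one]
    rw [h3, Matrix.trace_smul, smul_eq_mul, ← mul_assoc, mul_div_cancel₀ _ (ht0 i)]

end Main

end K192.TraceFn

end
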