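import Groth.Agent.HopfRep.K192.Char2
import Groth.Agent.HopfRep.K192.TraceFn

/-!
# Cocommutative elements are combinations of characters
-/

set_option autoImplicit false

universe u v w w' w''

open TensorProduct HopfRep

noncomputable section

namespace K192.ClassFn

open Groth.Agent.Books.ComodBasic Groth.Agent.Books.ComodHom K192.DualMod K192.Char

section

variable (k : Type u) [Field k] (C : Type v) [AddCommGroup C] [Module k C] [Coalgebra k C]
  (V : Type w) [AddCommGroup V] [Module k V] [Comod k C V]

/-- The action of the dual algebra as an algebra map. -/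
def dactAlg : Dl k C →ₐ[k] Module.End k V :=
  { dactHom k C V with
    commutes' := fun c => by
      change dactHom k C V (algebraMap k (Dl k C) c) = _
      have h1 : algebraMap k (Dl k C) c = c • (1 : Dl k C) := Algebra.algebraMap_eq_smul_one c
      have h2 : dactHom k C V (c • (1 : Dl k C)) = c • dactHom k C V (1 : Dl k C) := by
        change dact V (c • (1 : Dl k C).ofConv) = c • dact V (1 : Dl k C).ofConv
        ext v
        simp [dact, slice, LinearMap.lTensor_smul]
      rw [h1, h2, map_one, Algebra.algebraMap_eq_smul_one] }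

lemma dactAlg_apply (φ : Dl k C) (v : V) : dactAlg k C V φ v = dact V φ.ofConv v := rfl

/-- The algebra of operators of a comodule. -/
def opAlg : Subalgebra k (Module.End k V) := (dactAlg k C V).range

variable {k C V}

lemma dact_mem_opAlg (φ : C →ₗ[k] k) : dact V φ ∈ opAlg k C V := ⟨WithConv.toConv φ, rfl⟩

lemma exists_of_mem_opAlg {r : Module.End k V} (hr : r ∈ opAlg k C V) :
    ∃ φ : C →ₗ[k] k, dact V φ = r := by
  obtain ⟨φ, rfl⟩ := hr
  exact ⟨φ.ofConv, rfl⟩

/-- A semisimple comodule is a semisimple module over its algebra of operators. -/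
theorem isSemisimpleModule_opAlg (h : IsSemisimpleComod k C V) :
    IsSemisimpleModule (opAlg k C V) V := by
  rw [isSemisimpleModule_iff]
  refine ⟨fun N => ?_⟩
  have hN : IsSubcomod (k := k) (A := C) (N.restrictScalars k) := by
    rw [isSubcomod_iff_dact]
    intro φ w hw
    exact N.smul_mem ⟨dact V φ, dact_mem_opAlg φ⟩ hw
  obtain ⟨W, hW, hc⟩ := h _ hN
  have hW' := (isSubcomod_iff_dact W).1 hW
  let N' : Submodule (opAlg k C V) V :=
    { carrier := W
      add_mem' := fun ha hb => W.add_mem ha hb
      zero_mem' := W.zero_mem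
      smul_mem' := fun r v hv => by
        obtain ⟨φ, hφ⟩ := exists_of_mem_opAlg r.2
        change (r : Module.End k V) v ∈ W
        rw [← hφ]
        exact hW' φ v hv }
  refine ⟨N', ?_, ?_⟩
  · rw [Submodule.disjoint_def]
    intro x hx hx'
    exact Submodule.disjoint_def.1 hc.disjoint x hx hx'
  · rw [codisjoint_iff, eq_top_iff]
    intro x _
    have hx : x ∈ N.restrictScalars k ⊔ W := by rw [hc.sup_eq_top]; trivial
    obtain ⟨y, hy, z, hz, rfl⟩ := Submodule.mem_sup.1 hx
    exact Submodule.add_mem _ (Submodule.mem_sup_left hy)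
      (Submodule.mem_sup_right (show z ∈ N' from hz))

end

section

variable {k : Type u} [Field k] [IsAlgClosed k] [CharZero k]
  {C : Type v} [AddCommGroup C] [Module k C] [Coalgebra k C]

/-- An element `f` of a coalgebra which is symmetric under the flip of the comultiplication and
generates a semisimple comodule is a combination of characters. -/
theorem mem_span_of_symm (f : C)
    (hf : ∀ φ ψ : C →ₗ[k] k, dmul k C φ ψ f = dmul k C ψ φ f)
    (hss : @IsSemisimpleComod k C _ _ _ _ (gen k C f) _ _ (subComod _ (isSubcomod_gen f))) :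
    f ∈ Submodule.span k (charSet k C) := by
  let c : Comod k C (gen k C f) := subComod _ (isSubcomod_gen f)
  let V := gen k C f
  let f₀ : V := ⟨f, self_mem_gen f⟩
  have hcounit : ∀ φ : C →ₗ[k] k,
      CoalgebraStruct.counit (R := k) ((dact (k := k) (A := C) V φ f₀ : V) : C) = φ f := by
    intro φ
    rw [coe_dact_sub (isSubcomod_gen f) φ f₀]
    change CoalgebraStruct.counit (R := k) (slice C φ (CoalgebraStruct.comul (R := k) f)) = φ f
    have h1 : ∀ y : C ⊗[k] C, CoalgebraStruct.counit (R := k) (slice C φ y) =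
        φ (TensorProduct.lid k C ((CoalgebraStruct.counit (R := k) (A := C)).rTensor C y)) := by
      intro y
      induction y with
      | zero => simp
      | tmul a b => simp [mul_comm]
      | add x y hx hy => simp only [map_add, hx, hy]
    rw [h1, Coalgebra.rTensor_counit_comul]
    simp
  let g : opAlg k C V →ₗ[k] k :=
    CoalgebraStruct.counit (R := k) (A := C) ∘ₗ V.subtype ∘ₗ
      (LinearMap.applyₗ f₀ : (V →ₗ[k] V) →ₗ[k] V) ∘ₗ (opAlg k C V).val.toLinearMap
  have hgd : ∀ φ : C →ₗ[k] k, g ⟨dact V φ, dact_mem_opAlg φ⟩ = φ f := fun φ => hcounit φ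
  have hg : ∀ x y : opAlg k C V, g (x * y) = g (y * x) := by
    rintro ⟨x, hx⟩ ⟨y, hy⟩
    obtain ⟨φ, rfl⟩ := exists_of_mem_opAlg hx
    obtain ⟨ψ, rfl⟩ := exists_of_mem_opAlg hy
    have h1 : ∀ φ ψ : C →ₗ[k] k, (⟨dact V φ, dact_mem_opAlg φ⟩ * ⟨dact V ψ, dact_mem_opAlg ψ⟩ :
        opAlg k C V) = ⟨dact V (dmul k C φ ψ), dact_mem_opAlg _⟩ := by
      intro φ ψ
      apply Subtype.ext
      ext v
      exact congrArg Subtype.val (dact_dact φ ψ v)
    rw [h1, h1, hgd, hgd, hf]
  obtain ⟨u, huc, hu⟩ := K192.TraceFn.exists_central (opAlg k C V)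
    (isSemisimpleModule_opAlg hss) g hg
  have hucom : Hoch.IsComodHom C (u : V →ₗ[k] V) := by
    rw [isComodHom_iff_dact']
    intro φ v
    have h1 := congrArg Subtype.val (huc ⟨dact V φ, dact_mem_opAlg φ⟩)
    exact LinearMap.congr_fun h1 v
  have key : f = tchi C (u : V →ₗ[k] V) := by
    refine ext_dual (k := k) fun φ => ?_
    rw [apply_tchi, ← hgd φ, hu]
  rw [key]
  exact tchi_mem_span hucom

end

end K192.ClassFn

end
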