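import Groth.Agent.HopfRep.K192.ClassFn
import Groth.Agent.HopfRep.K192.CharIndep

/-!
# Symmetric elements of a coalgebra and characters
-/

set_option autoImplicit false

universe u v w w' w''

open TensorProduct HopfRep

noncomputable section

namespace K192.ClassFn

open Groth.Agent.Books.ComodBasic Groth.Agent.Books.ComodHom K192.DualMod K192.Char

variable {k : Type u} [Field k] {C : Type v} [AddCommGroup C] [Module k C] [Coalgebra k C]

omit [Coalgebra k C] in
/-- Elements of `C ⊗ C` are detected by pairs of functionals. -/
lemma ext_pair {x y : C ⊗[k] C}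
    (h : ∀ φ ψ : C →ₗ[k] k, LinearMap.mul' k k (TensorProduct.map φ ψ x) =
      LinearMap.mul' k k (TensorProduct.map φ ψ y)) : x = y := by
  refine ext_slice fun ψ => ext_dual (k := k) fun φ => ?_
  have h1 : ∀ z : C ⊗[k] C, φ (slice C ψ z) = LinearMap.mul' k k (TensorProduct.map φ ψ z) := by
    intro z
    induction z with
    | zero => simp
    | tmul a b => simp [mul_comm]
    | add x y hx hy => simp only [map_add, hx, hy]
  rw [h1, h1, h]

omit [Coalgebra k C] in
lemma map_comm_pair (φ ψ : C →ₗ[k] k) (x : C ⊗[k] C) :
    LinearMap.mul' k k (TensorProduct.map φ ψ (TensorProduct.comm k C C x)) =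
      LinearMap.mul' k k (TensorProduct.map ψ φ x) := by
  induction x with
  | zero => simp
  | tmul a b => simp [mul_comm]
  | add x y hx hy => simp only [map_add, hx, hy]

/-- Symmetry of the comultiplication in terms of the convolution product of functionals. -/
theorem symm_iff_dmul (f : C) :
    CoalgebraStruct.comul (R := k) f = TensorProduct.comm k C C (CoalgebraStruct.comul (R := k) f) ↔
      ∀ φ ψ : C →ₗ[k] k, dmul k C φ ψ f = dmul k C ψ φ f := by
  constructor
  · intro h φ ψ
    change LinearMap.mul' k k (TensorProduct.map φ ψ (CoalgebraStruct.comul (R := k) f)) =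
      LinearMap.mul' k k (TensorProduct.map ψ φ (CoalgebraStruct.comul (R := k) f))
    rw [h, map_comm_pair, ← h]
  · intro h
    refine ext_pair fun φ ψ => ?_
    rw [map_comm_pair]
    exact h φ ψ

/-- Characters are symmetric. -/
theorem dmul_chi {V : Type w} [AddCommGroup V] [Module k V] [Comod k C V] [Module.Finite k V]
    (φ ψ : C →ₗ[k] k) : dmul k C φ ψ (chi k C V) = dmul k C ψ φ (chi k C V) := by
  have h : ∀ φ ψ : C →ₗ[k] k, dact V (dmul k C φ ψ) = dact V φ * dact V ψ := by
    intro φ ψ
    ext v
    exact (dact_dact φ ψ v).symm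
  rw [apply_chi, apply_chi, h, h, LinearMap.trace_mul_comm]

theorem symm_of_mem_span {f : C} (hf : f ∈ Submodule.span k (charSet k C)) (φ ψ : C →ₗ[k] k) :
    dmul k C φ ψ f = dmul k C ψ φ f := by
  induction hf using Submodule.span_induction with
  | mem x hx =>
    obtain ⟨d, c, rfl⟩ := (mem_charSet_iff C x).1 hx
    exact dmul_chi φ ψ
  | zero => simp
  | add x y _ _ hx hy => rw [map_add, map_add, hx, hy]
  | smul a x _ hx => rw [map_smul, map_smul, hx]

/-- For a linearly reductive group over an algebraically closed field of characteristic zero the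
class functions are the combinations of characters. -/
theorem symm_iff_mem_span {k : Type u} [Field k] [IsAlgClosed k] [CharZero k] {A : Type v}
    [CommRing A] [Bialgebra k A] (hA : IsLinearlyReductive k A) (f : A) :
    CoalgebraStruct.comul (R := k) f = TensorProduct.comm k A A (CoalgebraStruct.comul (R := k) f) ↔
      f ∈ Submodule.span k (charSet k A) := by
  rw [symm_iff_dmul]
  constructor
  · intro h
    refine mem_span_of_symm f h ?_
    exact @hA (gen k A f) _ _ (subComod _ (isSubcomod_gen f)) inferInstance
  · intro h φ ψ
    exact symm_of_mem_span h φ ψ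

end K192.ClassFn

end
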