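import Groth.Agent.HopfRep.K192.ConjAct
import Mathlib.LinearAlgebra.Eigenspace.Zero

/-!
# Semisimple classes are closed (characteristic zero)

* `charpoly_eq_of_closure`: characteristic polynomials are constant on closures of classes;
* `exists_conj_of_closure`: over an algebraically closed field of characteristic zero the conjugacy
  class of a semisimple point of an affine algebraic group is closed.
-/

set_option autoImplicit false

universe u v w

open TensorProduct HopfRep GLin WithConv

noncomputable section

namespace K192.ClosedClass

open K192.ConjAct K192.OrbitDim Groth.Agent.Books Groth.Agent.Books.ComodPoints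
open Groth.Agent.Books.ComodHom Groth.Agent.Books.ComodBasic

section Mat

variable {k : Type u} [Field k] {A : Type v} [CommRing A] [HopfAlgebra k A]
  {V : Type w} [AddCommGroup V] [Module k V] [Comod k A V] [Module.Finite k V]

variable (k A V) in
/-- The coefficient matrix of a comodule. -/
def coMat : Matrix (Fin (Module.finrank k V)) (Fin (Module.finrank k V)) A := fun i j =>
  coeffMap A ((Module.finBasis k V).coord i) (Module.finBasis k V j)

lemma toMatrix_act (h : A →ₐ[k] k) :
    LinearMap.toMatrix (Module.finBasis k V) (Module.finBasis k V) (Comod.act k A V h) =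
      (coMat k A V).map h := by
  ext i j
  rw [LinearMap.toMatrix_apply, Matrix.map_apply]
  exact (apply_coeffMap (k := k) (A := A) ((Module.finBasis k V).coord i) h.toLinearMap
    (Module.finBasis k V j)).symm

lemma charpoly_act (h : A →ₐ[k] k) : (Comod.act k A V h).charpoly =
    (coMat k A V).charpoly.map h.toRingHom := by
  rw [← LinearMap.charpoly_toMatrix _ (Module.finBasis k V), toMatrix_act]
  exact (Matrix.charpoly_map _ h.toRingHom)

/-- The action of a point as an automorphism. -/
def actEquiv (h : WithConv (A →ₐ[k] k)) : V ≃ₗ[k] V :=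
  LinearEquiv.ofLinearMap (Comod.act k A V h.ofConv) (Comod.act k A V h⁻¹.ofConv)
    (by rw [← act_mul, mul_inv_cancel, act_one]) (by rw [← act_mul, inv_mul_cancel, act_one])

lemma charpoly_conj (x h : WithConv (A →ₐ[k] k)) :
    (Comod.act k A V (h⁻¹ * x * h).ofConv).charpoly = (Comod.act k A V x.ofConv).charpoly := by
  have h1 : Comod.act k A V (h⁻¹ * x * h).ofConv =
      (actEquiv (V := V) h).symm.conj (Comod.act k A V x.ofConv) := by
    rw [act_mul, act_mul]
    rfl
  rw [h1, LinearEquiv.charpoly_conj]

end Mat

section Closed

variable {k : Type u} [Field k] [IsAlgClosed k] {A : Type u} [CommRing A]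
  [HopfAlgebra k A] [Algebra.FiniteType k A] [IsReduced A]

/-- A class function on points is a constant on closures of conjugacy classes. -/
lemma apply_eq_of_closure (c : A)
    (hc : ∀ x h : WithConv (A →ₐ[k] k), (h⁻¹ * x * h).ofConv c = x.ofConv c) (x z : A →ₐ[k] k)
    (hz : ∀ f ∈ RingHom.ker (orb x), z f = 0) : z c = x c := by
  have h1 : orb x c = algebraMap k A (x c) := by
    rw [← sub_eq_zero]
    refine PointsAC.eq_zero_of_forall_point k A _ fun h => ?_
    rw [map_sub, sub_eq_zero, AlgHom.commutes]
    have h2 := hc (toConv x) (toConv h)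
    have h3 := DFunLike.congr_fun (actPt_eq h x) (show Cj k A from c)
    exact h3.trans h2
  have h2 := hz (c - algebraMap k A (x c)) (by
    rw [RingHom.mem_ker, map_sub, AlgHom.commutes, h1, sub_self])
  rw [map_sub, AlgHom.commutes] at h2
  exact sub_eq_zero.1 h2

/-- Characteristic polynomials are constant on closures of classes. -/
theorem charpoly_eq_of_closure (V : Type w) [AddCommGroup V] [Module k V] [Comod k A V]
    [Module.Finite k V] (x z : A →ₐ[k] k) (hz : ∀ f ∈ RingHom.ker (orb x), z f = 0) :
    (Comod.act k A V z).charpoly = (Comod.act k A V x).charpoly := by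
  rw [charpoly_act, charpoly_act]
  ext n
  rw [Polynomial.coeff_map, Polynomial.coeff_map]
  refine apply_eq_of_closure _ (fun x h => ?_) x z hz
  have h1 := charpoly_conj (V := V) x h
  rw [charpoly_act, charpoly_act] at h1
  have h2 := congrArg (fun p => Polynomial.coeff p n) h1
  simp only [Polynomial.coeff_map] at h2
  exact h2

/-- The class of a semisimple point is closed. -/
theorem exists_conj_of_closure [CharZero k] (x z : A →ₐ[k] k)
    (hx : Module.End.IsSemisimple (Comod.act k A A x))
    (hz : ∀ f ∈ RingHom.ker (orb x), z f = 0) :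
    ∃ h : A →ₐ[k] k, z = ((toConv h)⁻¹ * toConv x * toConv h).ofConv := by
  have hss := K192.SSPoint.isSemisimple_act (Cot k A) hx
  have h1 : Module.finrank k (Module.End.eigenspace (Comod.act k A (Cot k A) z) 1) ≤
      Module.finrank k (Module.End.eigenspace (Comod.act k A (Cot k A) x) 1) := by
    have e1 : Module.End.eigenspace (Comod.act k A (Cot k A) x) 1 =
        Module.End.maxGenEigenspace (Comod.act k A (Cot k A) x) 1 :=
      (hss.isFinitelySemisimple.maxGenEigenspace_eq_eigenspace 1).symm
    rw [e1, LinearMap.finrank_maxGenEigenspace_eq, ← charpoly_eq_of_closure (Cot k A) x z hz,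
      ← LinearMap.finrank_maxGenEigenspace_eq]
    refine Submodule.finrank_mono ?_
    exact (Module.End.genEigenspace (Comod.act k A (Cot k A) z) 1).mono (by simp)
  have h2 := finrank_cot (k := k) x
  have h3 := finrank_cot (k := k) z
  obtain ⟨h, hh⟩ := exists_actPt_eq_of_finrank_le (A := A) (toCj x) (toCj z) hz (by omega)
  rw [actPt_eq] at hh
  exact ⟨h, hh⟩

end Closed

end K192.ClosedClass
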