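import Groth.Agent.HopfRep.K192.DualMod2

/-!
# Commuting coactions
-/

set_option autoImplicit false

universe u v v' w w' w''

open TensorProduct HopfRep

noncomputable section

namespace K192.Commuting

open Groth.Agent.Books.ComodBasic Groth.Agent.Books.ComodHom K192.DualMod

variable {k : Type u} [Field k] {C : Type v} [AddCommGroup C] [Module k C] [Coalgebra k C]
  {D : Type v'} [AddCommGroup D] [Module k D] [Coalgebra k D]
  {V : Type w} [AddCommGroup V] [Module k V] [Comod k C V] [Comod k D V]

/-- Slicing `V ⊗ (C ⊗ D)` by two functionals. -/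
def slice2 (V : Type w) [AddCommGroup V] [Module k V] (φ : C →ₗ[k] k) (ψ : D →ₗ[k] k) :
    V ⊗[k] (C ⊗[k] D) →ₗ[k] V :=
  slice V (LinearMap.mul' k k ∘ₗ TensorProduct.map φ ψ)

lemma slice2_left (φ : C →ₗ[k] k) (ψ : D →ₗ[k] k) (x : V ⊗[k] D) :
    slice2 V φ ψ (TensorProduct.assoc k V C D
      ((Comod.coact (k := k) (A := C) (V := V)).rTensor D x)) =
      dact (k := k) (A := C) V φ (slice V ψ x) := by
  induction x with
  | zero => simp
  | tmul v d =>
    rw [LinearMap.rTensor_tmul, slice_tmul, map_smul, dact_apply]
    generalize Comod.coact (k := k) (A := C) v = y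
    induction y with
    | zero => simp
    | tmul v' c => simp [slice2, mul_comm, smul_smul]
    | add y z hy hz => simp only [map_add, smul_add, add_tmul, hy, hz]
  | add x y hx hy => simp only [map_add, hx, hy]

lemma slice2_right (φ : C →ₗ[k] k) (ψ : D →ₗ[k] k) (x : V ⊗[k] C) :
    slice2 V φ ψ ((TensorProduct.comm k D C).toLinearMap.lTensor V (TensorProduct.assoc k V D C
      ((Comod.coact (k := k) (A := D) (V := V)).rTensor C x))) =
      dact (k := k) (A := D) V ψ (slice V φ x) := by
  induction x with
  | zero => simp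
  | tmul v c =>
    rw [LinearMap.rTensor_tmul, slice_tmul, map_smul, dact_apply]
    generalize Comod.coact (k := k) (A := D) v = y
    induction y with
    | zero => simp
    | tmul v' d => simp [slice2, smul_smul]
    | add y z hy hz => simp only [map_add, smul_add, add_tmul, hy, hz]
  | add x y hx hy => simp only [map_add, hx, hy]

/-- Commuting coactions give commuting operators. -/
theorem dact_comm
    (hcomm : (TensorProduct.assoc k V C D).toLinearMap ∘ₗ
        (Comod.coact (k := k) (A := C) (V := V)).rTensor D ∘ₗ Comod.coact (k := k) (A := D) =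
      (TensorProduct.comm k D C).toLinearMap.lTensor V ∘ₗ (TensorProduct.assoc k V D C).toLinearMap ∘ₗ
        (Comod.coact (k := k) (A := D) (V := V)).rTensor C ∘ₗ Comod.coact (k := k) (A := C))
    (φ : C →ₗ[k] k) (ψ : D →ₗ[k] k) (v : V) :
    dact (k := k) (A := C) V φ (dact (k := k) (A := D) V ψ v) =
      dact (k := k) (A := D) V ψ (dact (k := k) (A := C) V φ v) := by
  have h := LinearMap.congr_fun hcomm v
  simp only [LinearMap.comp_apply, LinearEquiv.coe_coe] at h
  rw [dact_apply (A := D) ψ v, dact_apply (A := C) φ v, ← slice2_left, ← slice2_right, h]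

/-- Isotypic components for one coaction are stable under a commuting one. -/
theorem isSubcomod_iSup_range
    (hcomm : (TensorProduct.assoc k V C D).toLinearMap ∘ₗ
        (Comod.coact (k := k) (A := C) (V := V)).rTensor D ∘ₗ Comod.coact (k := k) (A := D) =
      (TensorProduct.comm k D C).toLinearMap.lTensor V ∘ₗ (TensorProduct.assoc k V D C).toLinearMap ∘ₗ
        (Comod.coact (k := k) (A := D) (V := V)).rTensor C ∘ₗ Comod.coact (k := k) (A := C))
    (S : Type w') [AddCommGroup S] [Module k S] [Comod k D S] :
    IsSubcomod (k := k) (A := C)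
      (⨆ f : {f : S →ₗ[k] V // Hoch.IsComodHom D f}, LinearMap.range f.1) := by
  rw [isSubcomod_iff_map_le]
  intro φ
  rw [Submodule.map_iSup]
  refine iSup_le fun f => ?_
  rw [← LinearMap.range_comp]
  refine le_iSup (fun f : {f : S →ₗ[k] V // Hoch.IsComodHom D f} => LinearMap.range f.1)
    ⟨dact V φ ∘ₗ f.1, ?_⟩
  rw [isComodHom_iff_dact']
  intro ψ s
  rw [LinearMap.comp_apply, (isComodHom_iff_dact' f.1).1 f.2 ψ s, LinearMap.comp_apply,
    dact_comm hcomm]

end K192.Commuting

end
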