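import Groth.Agent.Books.HopfJordan
import Groth.Agent.Books.ComodHom
import Groth.Agent.HopfRep.K192.Char
import Mathlib.LinearAlgebra.Eigenspace.Semisimple
import Mathlib.LinearAlgebra.Semisimple

/-!
# Semisimple points of a Hopf algebra over an algebraically closed field

* `isSemisimple_of_iSup_eigenspace`: a (possibly infinite-dimensional) diagonalizable endomorphism
  is semisimple;
* `isSemisimple_act`: if `g` acts semisimply on the regular comodule, it acts semisimply on every
  comodule;
* `isSemisimple_act_pointS`: the semisimple part of a point acts semisimply on every comodule;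
* `pointS_eq`: a semisimple point is its own semisimple part;
* `trace_act_pointS`: characters agree on a point and its semisimple part.
-/

set_option autoImplicit false

universe u v w

open TensorProduct HopfRep Module

noncomputable section

namespace K192.SSPoint

section Lin

variable {k : Type u} [Field k] {M : Type v} [AddCommGroup M] [Module k M]

lemma eigenspace_mem_invt (T : Module.End k M) (μ : k) : T.eigenspace μ ∈ T.invtSubmodule := by
  rw [Module.End.mem_invtSubmodule]
  intro x hx
  rw [Submodule.mem_comap]
  have hx' := Module.End.mem_eigenspace_iff.1 hx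
  rw [Module.End.mem_eigenspace_iff, hx', map_smul, hx']

/-- A diagonalizable endomorphism is semisimple. -/
theorem isSemisimple_of_iSup_eigenspace (T : Module.End k M) (h : ⨆ μ, T.eigenspace μ = ⊤) :
    T.IsSemisimple := by
  have hinv := eigenspace_mem_invt T
  rw [Module.End.IsSemisimple]
  refine isSemisimpleModule_of_isSemisimpleModule_submodule'
    (p := fun μ => AEval.mapSubmodule k M T ⟨T.eigenspace μ, hinv μ⟩) (fun μ => ?_) ?_
  · let T' : Module.End k (T.eigenspace μ) := LinearMap.restrict T (hinv μ)
    have h1 : Module.End.IsSemisimple T' := by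
      rw [← Module.End.isSemisimple_sub_algebraMap_iff (μ := μ)]
      have h2 : T' - algebraMap k (Module.End k (T.eigenspace μ)) μ = 0 := by
        ext x
        have hx := Module.End.mem_eigenspace_iff.1 x.2
        simp [T', LinearMap.restrict_apply, hx]
      rw [h2]
      exact Module.End.isSemisimple_zero
    exact (AEval.restrict_equiv_mapSubmodule T _ (hinv μ)).isSemisimpleModule_iff.1 h1
  · set N : Submodule (Polynomial k) (AEval' T) :=
      ⨆ μ, AEval.mapSubmodule k M T ⟨T.eigenspace μ, hinv μ⟩ with hN
    let e := AEval.mapSubmodule k M T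
    have h1 : ∀ μ, T.eigenspace μ ≤ (e.symm N).1 := by
      intro μ
      have h2 : e ⟨T.eigenspace μ, hinv μ⟩ ≤ N := le_iSup
        (fun μ => AEval.mapSubmodule k M T ⟨T.eigenspace μ, hinv μ⟩) μ
      have h3 := e.symm.monotone h2
      rw [OrderIso.symm_apply_apply] at h3
      exact h3
    have h4 : (⊤ : Submodule k M) ≤ (e.symm N).1 := by
      rw [← h]
      exact iSup_le h1
    have h5 : e.symm N = ⊤ := Subtype.ext (top_le_iff.1 h4)
    have h6 := congrArg e h5
    rw [OrderIso.apply_symm_apply, map_top] at h6
    exact h6

end Lin

section Comod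

open Groth.Agent.Books.ComodBasic Groth.Agent.Books.ComodHom
open Groth.Agent.Books.HopfJordan (pointS act_pointS locFinite_dact)
open Groth.Agent.Books.LocJordan K192.DualMod K192.Char

variable {k : Type u} [Field k] [IsAlgClosed k] {A : Type v} [CommRing A] [Bialgebra k A]
  {V : Type w} [AddCommGroup V] [Module k V] [Comod k A V]

omit [IsAlgClosed k] in
/-- An endomorphism of a comodule given by a functional is diagonalizable once it is so on
finite-dimensional comodules. -/
theorem iSup_eigenspace_eq_top_of_finite (φ : A →ₗ[k] k)
    (h : ∀ (W : Type w) [AddCommGroup W] [Module k W] [Comod k A W] [Module.Finite k W],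
      (⨆ μ, Module.End.eigenspace (dact W φ) μ) = ⊤) :
    ⨆ μ, Module.End.eigenspace (dact V φ) μ = ⊤ := by
  rw [eq_top_iff]
  rintro v -
  obtain ⟨W, hv, hf, hW⟩ := Groth.Agent.Books.DualAct.exists_finite_subcomod (k := k) (A := A) v
  let _ := subComod W hW
  have h1 := h W
  have h2 : (⟨v, hv⟩ : W) ∈ ⨆ μ, Module.End.eigenspace (dact W φ) μ := by
    rw [h1]; trivial
  have h3 : v ∈ (⨆ μ, Module.End.eigenspace (dact W φ) μ).map W.subtype := ⟨_, h2, rfl⟩
  rw [Submodule.map_iSup] at h3
  have h3' : (⨆ μ, Submodule.map W.subtype (Module.End.eigenspace (dact W φ) μ)) ≤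
      ⨆ μ, Module.End.eigenspace (dact V φ) μ := by
    refine iSup_mono fun μ => ?_
    rintro _ ⟨w, hw, rfl⟩
    have hw' := Module.End.mem_eigenspace_iff.1 hw
    rw [Module.End.mem_eigenspace_iff]
    have h4 := (isComodHom_subtype (k := k) (A := A) W hW).map_dact φ w
    rw [← h4, hw', map_smul]
  exact h3' h3

/-- On a finite-dimensional comodule a semisimple point is diagonalizable. -/
theorem iSup_eigenspace_eq_top_of_finiteDim {φ : A →ₗ[k] k}
    (hg : Module.End.IsSemisimple (dact A φ : Module.End k A)) [Module.Finite k V] :
    ⨆ μ, Module.End.eigenspace (dact V φ) μ = ⊤ := by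
  have h1 : ∀ μ, Module.End.maxGenEigenspace (dact V φ) μ =
      Module.End.eigenspace (dact V φ) μ := by
    intro μ
    refine le_antisymm ?_ ?_
    · intro v hv
      rw [Module.End.mem_eigenspace_iff]
      have hv' := (Module.End.mem_maxGenEigenspace _ _ _).1 hv
      obtain ⟨n, hn⟩ := hv'
      rw [← sub_eq_zero]
      refine (Module.forall_dual_apply_eq_zero_iff k _).1 fun f => ?_
      have hint : ∀ w, coeffMap A f (dact V φ w) = dact A φ (coeffMap A f w) := fun w =>
        (isComodHom_coeffMap (k := k) (A := A) f).map_dact φ w
      have hpow : ∀ (n : ℕ) (w : V), coeffMap A f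
          ((((dact V φ : Module.End k V) - μ • (1 : Module.End k V)) ^ n) w) =
          (((dact A φ : Module.End k A) - μ • (1 : Module.End k A)) ^ n) (coeffMap A f w) := by
        intro n
        induction n with
        | zero => intro w; rfl
        | succ n ih =>
          intro w
          rw [pow_succ, pow_succ, Module.End.mul_apply, Module.End.mul_apply, ih]
          congr 1
          simp [hint]
      have h2 : coeffMap A f v ∈ Module.End.maxGenEigenspace (dact A φ) μ := by
        rw [Module.End.mem_maxGenEigenspace]
        exact ⟨n, by rw [← hpow, hn, map_zero]⟩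
      rw [hg.isFinitelySemisimple.maxGenEigenspace_eq_eigenspace,
        Module.End.mem_eigenspace_iff] at h2
      have h3 : coeffMap A f (dact V φ v - μ • v) = 0 := by
        rw [map_sub, map_smul, hint, h2, sub_self]
      have h4 := counit_coeffMap (k := k) (A := A) f (dact V φ v - μ • v)
      rw [h3, map_zero] at h4
      exact h4.symm
    · exact (Module.End.genEigenspace (dact V φ) μ).mono (by simp)
  have h2 := Module.End.iSup_maxGenEigenspace_eq_top (dact V φ : Module.End k V)
  simp only [h1] at h2
  exact h2

/-- A semisimple point acts diagonalizably on every comodule. -/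
theorem iSup_eigenspace_eq_top {φ : A →ₗ[k] k}
    (hg : Module.End.IsSemisimple (dact A φ : Module.End k A)) :
    ⨆ μ, Module.End.eigenspace (dact V φ) μ = ⊤ :=
  iSup_eigenspace_eq_top_of_finite φ fun _ _ _ _ _ => iSup_eigenspace_eq_top_of_finiteDim hg

variable (V) in
/-- A semisimple point acts semisimply on every comodule. -/
theorem isSemisimple_act {g : A →ₐ[k] k}
    (hg : Module.End.IsSemisimple (Comod.act k A A g)) :
    Module.End.IsSemisimple (Comod.act k A V g) :=
  isSemisimple_of_iSup_eigenspace _ (iSup_eigenspace_eq_top (V := V) (φ := g.toLinearMap) hg)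

end Comod

section Point

open Groth.Agent.Books.ComodBasic Groth.Agent.Books.ComodHom
open Groth.Agent.Books.HopfJordan (pointS act_pointS locFinite_dact)
open Groth.Agent.Books.LocJordan K192.DualMod K192.Char

variable {k : Type u} [Field k] [IsAlgClosed k] {A : Type v} [CommRing A] [HopfAlgebra k A]
  {V : Type w} [AddCommGroup V] [Module k V] [Comod k A V]

variable (V) in
/-- The semisimple part of a point acts semisimply. -/
theorem isSemisimple_act_pointS (g : A →ₐ[k] k) :
    Module.End.IsSemisimple (Comod.act k A V (pointS g)) := by
  refine isSemisimple_of_iSup_eigenspace _ (iSup_eigenspace_eq_top_of_finite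
    (pointS g).toLinearMap fun W _ _ _ _ => ?_)
  have h1 : (dact W (pointS g).toLinearMap : Module.End k W) =
      semis (Comod.act k A W g : Module.End k W) (locFinite_dact _).locAlgebraic := act_pointS g
  rw [h1]
  exact (semis_isSemisimple _ _).iSup_eigenspace_eq_top

/-- The trace of a point and of its semisimple part agree. -/
theorem trace_act_pointS [Module.Finite k V] (g : A →ₐ[k] k) :
    LinearMap.trace k V (Comod.act k A V (pointS g)) =
      LinearMap.trace k V (Comod.act k A V g) := by
  rw [act_pointS g (V := V)]
  have h := sub_semis_isNilpotent (Comod.act k A V g : Module.End k V)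
    (locFinite_dact _).locAlgebraic
  have h2 := LinearMap.isNilpotent_trace_of_isNilpotent h
  rw [map_sub] at h2
  exact (sub_eq_zero.1 h2.eq_zero).symm

/-- A semisimple point is its own semisimple part. -/
theorem pointS_eq {g : A →ₐ[k] k} (hg : Module.End.IsSemisimple (Comod.act k A A g)) :
    pointS g = g := by
  have h1 : (dact A (pointS g).toLinearMap : Module.End k A) = dact A g.toLinearMap := by
    ext a
    obtain ⟨W, hv, hf, hW⟩ := Groth.Agent.Books.DualAct.exists_finite_subcomod (k := k) (A := A) (V := A) a
    let _ := subComod W hW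
    have h2 : Comod.act k A W (pointS g) = Comod.act k A W g := by
      rw [act_pointS g (V := W)]
      refine (eq_semis_of _ _ _ (isSemisimple_act W hg) ?_ ?_).symm
      · rw [sub_self (Comod.act k A W g : Module.End k W)]; exact IsNilpotent.zero
      · exact Commute.refl _
    have h3 := LinearMap.congr_fun h2 (⟨a, hv⟩ : W)
    have h4 := (isComodHom_subtype (k := k) (A := A) W hW).map_dact (pointS g).toLinearMap ⟨a, hv⟩
    have h5 := (isComodHom_subtype (k := k) (A := A) W hW).map_dact g.toLinearMap ⟨a, hv⟩
    change dact A (pointS g).toLinearMap a = dact A g.toLinearMap a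
    have h4' : W.subtype (dact W (pointS g).toLinearMap ⟨a, hv⟩) =
      dact A (pointS g).toLinearMap a := h4
    have h5' : W.subtype (dact W g.toLinearMap ⟨a, hv⟩) = dact A g.toLinearMap a := h5
    rw [← h4', ← h5']
    exact congrArg W.subtype h3
  exact AlgHom.toLinearMap_injective (Groth.Agent.Books.HopfJordan.ext_of_dact_regular h1)

end Point

end K192.SSPoint
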