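import Groth.Agent.HopfRep.K192.OrbitDim
import Groth.Agent.HopfRep.K192.SSPoint
import Groth.Agent.Agf.H543.ConjData
import Groth.Agent.Books.PointsAC

/-!
# The conjugation action

`Cj k A` is `A` with the conjugation coaction `f ↦ ((x, h) ↦ f (h⁻¹ x h))`, so that
`actPt k h x = h⁻¹ x h`.

* `actPt_eq`: the action on points;
* `dOrb_apply_eq`: the differential of the orbit map of `x` is `f ↦ [λ_x f] - [ρ_x f]`;
* `comodVq`: the (co)adjoint comodule `Vq k A`, finite-dimensional for `A` of finite type;
* `cot_eq_range`: `cot A x` is the image of `1 - Ad(x)`.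
-/

set_option autoImplicit false

universe u v w

open TensorProduct HopfRep GLin WithConv

noncomputable section

namespace K192.ConjAct

open Groth.Agent.S1846 K192.OrbitDim Groth.Agent.Agf.H601 Groth.Agent.Agf.H543.ConjDat
open Groth.Agent.Books.DynBasic (mapPt mapPt_toConv)

section Basic

variable (k : Type u) [Field k] (A : Type u) [CommRing A] [HopfAlgebra k A]

/-- `A` with the conjugation coaction. -/
def Cj (k : Type u) [Field k] (A : Type u) [CommRing A] [HopfAlgebra k A] : Type u := A

instance instCommRingCj : CommRing (Cj k A) := inferInstanceAs (CommRing A)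

instance instAlgebraCj : Algebra k (Cj k A) := inferInstanceAs (Algebra k A)

instance instFiniteTypeCj [h : Algebra.FiniteType k A] : Algebra.FiniteType k (Cj k A) := h

instance instComodCj : Comod k A (Cj k A) := conjComod k A

instance instIsCoactAlgCj : IsCoactAlg k A (Cj k A) where
  coact_one := map_one (conjCo k A)
  coact_mul f g := map_mul (conjCo k A) f g

variable {k A}

/-- A point of `A` as a point of `Cj k A`. -/
def toCj (x : A →ₐ[k] k) : Cj k A →ₐ[k] k := x

/-- The orbit map of a point. -/
def orb (x : A →ₐ[k] k) : A →ₐ[k] A := orbitHom k A (R := Cj k A) (toCj x)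

lemma orb_eq (x : A →ₐ[k] k) : (toConv (orb x) : WithConv (A →ₐ[k] A)) =
    (toConv (AlgHom.id k A))⁻¹ * toConv ((Algebra.ofId k A).comp x) * toConv (AlgHom.id k A) := by
  let φ : A ⊗[k] A →ₐ[k] A := (Algebra.TensorProduct.lid k A).toAlgHom.comp
    (Algebra.TensorProduct.map x (AlgHom.id k A))
  have h := mapPt_conj (k := k) (A := A) φ
  have e1 : φ.comp Algebra.TensorProduct.includeRight = AlgHom.id k A := by
    ext a
    simp [φ]
  have e2 : φ.comp Algebra.TensorProduct.includeLeft = (Algebra.ofId k A).comp x := by
    ext a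
    simp [φ, Algebra.ofId_apply, Algebra.algebraMap_eq_smul_one]
  rw [e1, e2] at h
  exact h

lemma actPt_eq (h x : A →ₐ[k] k) : actPt k h (toCj x) =
    toCj ((toConv h)⁻¹ * toConv x * toConv h).ofConv := by
  have h1 := congrArg (mapPt h) (orb_eq x)
  rw [map_mul, map_mul, map_inv, mapPt_toConv, mapPt_toConv, mapPt_toConv] at h1
  have e1 : h.comp ((Algebra.ofId k A).comp x) = x := by
    ext a
    simp [Algebra.ofId_apply]
  rw [e1, AlgHom.comp_id] at h1
  exact congrArg WithConv.ofConv h1

/-- right translation -/
def rho (x : A →ₐ[k] k) : A →ₗ[k] A :=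
  (TensorProduct.rid k A).toLinearMap ∘ₗ x.toLinearMap.lTensor A ∘ₗ CoalgebraStruct.comul (R := k)

/-- left translation -/
def lam (x : A →ₐ[k] k) : A →ₗ[k] A :=
  (TensorProduct.lid k A).toLinearMap ∘ₗ x.toLinearMap.rTensor A ∘ₗ CoalgebraStruct.comul (R := k)

lemma rho_eq_act (x : A →ₐ[k] k) : rho x = Comod.act k A A x := rfl

lemma point_rho (x h : A →ₐ[k] k) (f : A) : h (rho x f) = (toConv h * toConv x).ofConv f := by
  rw [K189.Antipode.convMul_apply, rho, LinearMap.comp_apply, LinearMap.comp_apply]
  generalize CoalgebraStruct.comul (R := k) f = z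
  induction z with
  | zero => simp
  | tmul a b => simp [mul_comm]
  | add y z hy hz => simp only [map_add, hy, hz]

lemma point_lam (x h : A →ₐ[k] k) (f : A) : h (lam x f) = (toConv x * toConv h).ofConv f := by
  rw [K189.Antipode.convMul_apply, lam, LinearMap.comp_apply, LinearMap.comp_apply]
  generalize CoalgebraStruct.comul (R := k) f = z
  induction z with
  | zero => simp
  | tmul a b => simp
  | add y z hy hz => simp only [map_add, hy, hz]

lemma counit_rho (x : A →ₐ[k] k) (f : A) : CoalgebraStruct.counit (R := k) (rho x f) = x f := by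
  have h := point_rho x (Bialgebra.counitAlgHom k A) f
  have e : (toConv (Bialgebra.counitAlgHom k A) : WithConv (A →ₐ[k] k)) = 1 := rfl
  rw [e, one_mul] at h
  exact h

/-- The differential of the orbit map. -/
theorem dOrb_apply_eq (x : A →ₐ[k] k) (f : A) : dOrb (A := A) (toCj x) f =
    del k A (lam x f) - del k A (rho x f) := by
  have h1 := congrArg WithConv.ofConv (orb_eq x)
  have e1 : ∀ a : A, (((toConv (AlgHom.id k A))⁻¹ * toConv ((Algebra.ofId k A).comp x) :
      WithConv (A →ₐ[k] A))).ofConv a = HopfAlgebraStruct.antipode k (rho x a) := by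
    intro a
    rw [K189.Antipode.convMul_apply, rho, LinearMap.comp_apply, LinearMap.comp_apply]
    generalize CoalgebraStruct.comul (R := k) a = z
    induction z with
    | zero => simp
    | tmul b c =>
      simp only [TensorProduct.map_tmul, LinearMap.mul'_apply, LinearMap.lTensor_tmul,
        LinearEquiv.coe_coe, TensorProduct.rid_tmul, map_smul]
      change HopfAlgebraStruct.antipode k b * algebraMap k A (x c) = x c • _
      rw [Algebra.smul_def, mul_comm]
    | add y z hy hz => simp only [map_add, hy, hz]
  have h2 := congrArg (fun F : A →ₐ[k] A => F f) h1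
  change orb x f = _ at h2
  have h0 : dOrb (A := A) (toCj x) f = del k A (orb x f) := rfl
  rw [h0, h2, K189.Antipode.convMul_apply]
  have h3 : ∀ z : A ⊗[k] A, del k A (LinearMap.mul' k A (TensorProduct.map
      ((toConv (AlgHom.id k A))⁻¹ * toConv ((Algebra.ofId k A).comp x)).ofConv.toLinearMap
      (toConv (AlgHom.id k A)).ofConv.toLinearMap z)) =
      del k A (TensorProduct.lid k A (x.toLinearMap.rTensor A z)) -
      del k A (rho x (TensorProduct.rid k A
        ((CoalgebraStruct.counit (R := k) (A := A)).lTensor A z))) := by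
    intro z
    induction z with
    | zero => simp
    | tmul b c =>
      rw [TensorProduct.map_tmul, LinearMap.mul'_apply]
      change del k A (((toConv (AlgHom.id k A))⁻¹ * toConv ((Algebra.ofId k A).comp x) :
        WithConv (A →ₐ[k] A)).ofConv b * c) = _
      rw [e1, del_mul, HopfAlgebra.counit_antipode, counit_rho, del_antipode]
      simp only [LinearMap.rTensor_tmul, LinearMap.lTensor_tmul, TensorProduct.lid_tmul,
        TensorProduct.rid_tmul, map_smul, smul_neg, sub_eq_add_neg]
      rfl
    | add y z hy hz => simp only [map_add, hy, hz]; abel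
  rw [h3, Coalgebra.lTensor_counit_comul, TensorProduct.rid_tmul, one_smul]
  rfl

lemma act_mul' (h : A →ₐ[k] k) (f g : Cj k A) : Comod.act k A (Cj k A) h (f * g) =
    Comod.act k A (Cj k A) h f * Comod.act k A (Cj k A) h g := by
  have e : ∀ f : Cj k A, Comod.act k A (Cj k A) h f = (Algebra.TensorProduct.rid k k (Cj k A))
      ((Algebra.TensorProduct.map (AlgHom.id k (Cj k A)) h) (coactAlgHom k A (Cj k A) f)) :=
    fun f => rfl
  rw [e, e, e, map_mul, map_mul, map_mul]

lemma point_act (h : A →ₐ[k] k) (x : A →ₐ[k] k) (f : A) :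
    x (show A from Comod.act k A (Cj k A) h f) =
      ((toConv h)⁻¹ * toConv x * toConv h).ofConv f := by
  have h1 := K701.Orbit.orbitHom_act (toCj x) h (show Cj k A from f)
  rw [← K701.Orbit.actPt_apply, actPt_eq] at h1
  exact h1

lemma counit_act (h : A →ₐ[k] k) (f : A) : CoalgebraStruct.counit (R := k)
    (show A from Comod.act k A (Cj k A) h f) = CoalgebraStruct.counit (R := k) f := by
  have h1 := point_act h (Bialgebra.counitAlgHom k A) f
  have e : (toConv (Bialgebra.counitAlgHom k A) : WithConv (A →ₐ[k] k)) = 1 := rfl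
  rw [e, mul_one, inv_mul_cancel] at h1
  exact h1

end Basic

section Vq

variable {k : Type u} [Field k] [IsAlgClosed k] {A : Type u} [CommRing A] [HopfAlgebra k A]
  [Algebra.FiniteType k A] [IsReduced A]

open Groth.Agent.Books Groth.Agent.Books.ComodPoints Groth.Agent.Books.ComodHom

/-- The relations as a subspace of `Cj k A`. -/
def relCj (k : Type u) [Field k] (A : Type u) [CommRing A] [HopfAlgebra k A] :
    Submodule k (Cj k A) := rel k A

variable (k A) in
lemma isSubcomod_relCj : IsSubcomod (k := k) (A := A) (relCj k A) := by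
  refine isSubcomod_of_stable (fun a ha => PointsAC.eq_zero_of_forall_point k A a ha) _ ?_
  intro h f hf
  have h1 : relCj k A ≤ (relCj k A).comap (Comod.act k A (Cj k A) h) := by
    refine Submodule.span_le.2 ?_
    rintro _ ⟨a, b, rfl⟩
    change Comod.act k A (Cj k A) h _ ∈ rel k A
    have h2 : Comod.act k A (Cj k A) h (show Cj k A from
        a * b - CoalgebraStruct.counit (R := k) a • b - CoalgebraStruct.counit (R := k) b • a) =
        (show A from Comod.act k A (Cj k A) h a) * (show A from Comod.act k A (Cj k A) h b) -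
        CoalgebraStruct.counit (R := k) (show A from Comod.act k A (Cj k A) h a) •
          (show A from Comod.act k A (Cj k A) h b) -
        CoalgebraStruct.counit (R := k) (show A from Comod.act k A (Cj k A) h b) •
          (show A from Comod.act k A (Cj k A) h a) := by
      rw [counit_act, counit_act]
      have h3 := act_mul' h (show Cj k A from a) (show Cj k A from b)
      have h4 := (Comod.act k A (Cj k A) h).map_sub
        (show Cj k A from a * b - CoalgebraStruct.counit (R := k) a • b)
        (show Cj k A from CoalgebraStruct.counit (R := k) b • a)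
      have h5 := (Comod.act k A (Cj k A) h).map_sub
        (show Cj k A from a * b) (show Cj k A from CoalgebraStruct.counit (R := k) a • b)
      have h6 := (Comod.act k A (Cj k A) h).map_smul (CoalgebraStruct.counit (R := k) a)
        (show Cj k A from b)
      have h7 := (Comod.act k A (Cj k A) h).map_smul (CoalgebraStruct.counit (R := k) b)
        (show Cj k A from a)
      refine h4.trans ?_
      refine congrArg₂ (fun p q : A => p - q) (h5.trans ?_) h7
      exact congrArg₂ (fun p q : A => p - q) h3 h6
    rw [h2]
    exact Submodule.subset_span ⟨_, _, rfl⟩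
  exact h1 hf

/-- The coadjoint comodule. -/
abbrev Cot (k : Type u) [Field k] (A : Type u) [CommRing A] [HopfAlgebra k A] : Type u :=
  Cj k A ⧸ relCj k A

variable (k A) in
omit [IsAlgClosed k] [Algebra.FiniteType k A] [IsReduced A] in
lemma span_del_eq_top (s : Set A) (hs : Algebra.adjoin k s = ⊤) :
    Submodule.span k (del k A '' s) = ⊤ := by
  rw [eq_top_iff]
  rintro v -
  obtain ⟨a, rfl⟩ := (rel k A).mkQ_surjective v
  change del k A a ∈ _
  have ha : a ∈ Algebra.adjoin k s := by rw [hs]; trivial
  induction ha using Algebra.adjoin_induction with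
  | mem x hx => exact Submodule.subset_span ⟨x, hx, rfl⟩
  | algebraMap c => rw [del_algebraMap]; exact zero_mem _
  | add x y _ _ hx hy => rw [map_add]; exact add_mem hx hy
  | mul x y _ _ hx hy =>
    rw [del_mul]
    exact add_mem (Submodule.smul_mem _ _ hy) (Submodule.smul_mem _ _ hx)

instance finite_Cot (k : Type u) [Field k] (A : Type u) [CommRing A] [HopfAlgebra k A]
    [Algebra.FiniteType k A] : Module.Finite k (Cot k A) := by
  obtain ⟨s, hs⟩ := Algebra.FiniteType.out (R := k) (A := A)
  have h : (⊤ : Submodule k (Vq k A)).FG := by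
    rw [← span_del_eq_top k A (s : Set A) hs]
    exact Submodule.fg_span (s.finite_toSet.image _)
  exact ⟨h⟩

instance comodCot : Comod k A (Cot k A) := quotComod (relCj k A) (isSubcomod_relCj k A)

/-- The class of an element in the cotangent space. -/
def cl (f : A) : Cot k A := (relCj k A).mkQ (show Cj k A from f)

lemma act_cl (x : A →ₐ[k] k) (f : A) : Comod.act k A (Cot k A) x (cl f) =
    cl (show A from Comod.act k A (Cj k A) x f) := by
  have h := (isComodHom_mkQ (k := k) (A := A) (relCj k A) (isSubcomod_relCj k A)).map_dact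
    x.toLinearMap (show Cj k A from f)
  exact h.symm

lemma act_lam (x : A →ₐ[k] k) (f : A) :
    (show A from Comod.act k A (Cj k A) x (show Cj k A from lam x f)) = rho x f := by
  rw [← sub_eq_zero]
  refine PointsAC.eq_zero_of_forall_point k A _ fun h => ?_
  rw [map_sub, sub_eq_zero, point_act, point_lam, point_rho]
  congr 2
  simp only [toConv_ofConv, mul_assoc, mul_inv_cancel_left]

lemma lam_lam_inv (x : A →ₐ[k] k) (f : A) :
    lam x (lam (toConv x)⁻¹.ofConv f) = f := by
  rw [← sub_eq_zero]
  refine PointsAC.eq_zero_of_forall_point k A _ fun h => ?_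
  rw [map_sub, sub_eq_zero, point_lam, point_lam]
  simp only [toConv_ofConv, inv_mul_cancel_left]

lemma cot_eq_range (x : A →ₐ[k] k) : (cot A (toCj x) : Submodule k (Vq k A)) =
    LinearMap.range (1 - Comod.act k A (Cot k A) x : Module.End k (Cot k A)) := by
  have h1 : ∀ f : A, (dOrb (A := A) (toCj x) f : Cot k A) =
      (1 - Comod.act k A (Cot k A) x : Module.End k (Cot k A)) (cl (lam x f)) := by
    intro f
    rw [LinearMap.sub_apply, act_cl, act_lam, dOrb_apply_eq]
    rfl
  ext v
  constructor
  · rintro ⟨f, rfl⟩
    exact ⟨cl (lam x f), (h1 f).symm⟩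
  · rintro ⟨w, rfl⟩
    obtain ⟨f, rfl⟩ := (relCj k A).mkQ_surjective w
    refine ⟨show Cj k A from lam (toConv x)⁻¹.ofConv f, ?_⟩
    have h2 := h1 (lam (toConv x)⁻¹.ofConv f)
    rw [lam_lam_inv] at h2
    exact h2

theorem finrank_cot (x : A →ₐ[k] k) : Module.finrank k (cot A (toCj x)) +
    Module.finrank k (Module.End.eigenspace (Comod.act k A (Cot k A) x) 1) =
    Module.finrank k (Cot k A) := by
  have h1 : Module.End.eigenspace (Comod.act k A (Cot k A) x) 1 =
      LinearMap.ker (1 - Comod.act k A (Cot k A) x : Module.End k (Cot k A)) := by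
    ext v
    rw [Module.End.mem_eigenspace_iff, LinearMap.mem_ker, LinearMap.sub_apply, one_smul,
      sub_eq_zero, eq_comm]
    rfl
  rw [h1]
  have h2 : Module.finrank k (cot A (toCj x)) = Module.finrank k
      (LinearMap.range (1 - Comod.act k A (Cot k A) x : Module.End k (Cot k A))) :=
    congrArg (fun W : Submodule k (Vq k A) => Module.finrank k W) (cot_eq_range x)
  rw [h2]
  exact LinearMap.finrank_range_add_finrank_ker _

end Vq

end K192.ConjAct
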