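import Groth.Agent.HopfRep.K192.SSClass
import Groth.Prelude.Def_CoactBr

/-!
# The conjugation map as a morphism of schemes

* `conj_mor_eq`: the morphism `x ↦ x g x⁻¹` is `Spec` of the antipode composed with `orb g`;
* `isClosed_range_conj_iff`: its image is closed iff the class of `g` is closed on points;
* `exists_mor_conj`: conjugation by points written with morphisms of schemes.
-/

set_option autoImplicit false

universe u v w

open CategoryTheory MonoidalCategory CartesianMonoidalCategory MonObj AlgebraicGeometry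
open TensorProduct HopfRep GLin WithConv

noncomputable section

namespace K192.ConjScheme

open K192.ConjAct K701.Orbit3

variable {k : Type u} [Field k] {A : Type u} [CommRing A] [HopfAlgebra k A]

lemma pt_mul_pt' {B : Type u} [CommRing B] [Algebra k B] (g h : A →ₐ[k] B) :
    CoactBr.pt g * CoactBr.pt h = CoactBr.pt (toConv g * toConv h).ofConv := by
  rw [CoactBr.pt_mul_pt]
  congr 1
  apply AlgHom.ext
  intro a
  rw [K189.Antipode.convMul_apply]
  change (Algebra.TensorProduct.lift g h fun _ _ => .all _ _) (CoalgebraStruct.comul (R := k) a) = _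
  generalize CoalgebraStruct.comul (R := k) a = z
  induction z with
  | zero => simp
  | tmul a b => simp
  | add y z hy hz => simp only [map_add, hy, hz]

lemma pt_inv' {B : Type u} [CommRing B] [Algebra k B] (g : A →ₐ[k] B) :
    (CoactBr.pt g)⁻¹ = CoactBr.pt (toConv g)⁻¹.ofConv := CoactBr.pt_inv g

lemma antipode_comp_orb (g : A →ₐ[k] k) :
    (toConv (AlgHom.id k A) * toConv ((Algebra.ofId k A).comp g) *
      (toConv (AlgHom.id k A))⁻¹ : WithConv (A →ₐ[k] A)).ofConv =
      (HopfAlgebra.antipodeAlgHom k A).comp (orb g) := by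
  have h1 := congrArg (Groth.Agent.Books.DynBasic.mapPt (HopfAlgebra.antipodeAlgHom k A)) (orb_eq g)
  rw [map_mul, map_mul, map_inv, Groth.Agent.Books.DynBasic.mapPt_toConv,
    Groth.Agent.Books.DynBasic.mapPt_toConv, Groth.Agent.Books.DynBasic.mapPt_toConv] at h1
  have e1 : (toConv ((HopfAlgebra.antipodeAlgHom k A).comp (AlgHom.id k A)) :
      WithConv (A →ₐ[k] A)) = (toConv (AlgHom.id k A))⁻¹ := rfl
  have e2 : (HopfAlgebra.antipodeAlgHom k A).comp ((Algebra.ofId k A).comp g) =
      (Algebra.ofId k A).comp g := by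
    ext a
    simp [Algebra.ofId_apply]
  rw [e1, e2, inv_inv] at h1
  exact (congrArg WithConv.ofConv h1).symm

lemma conj_mor_eq (g : A →ₐ[k] k) :
    𝟙 (CoactBr.sp k A) * CoactBr.pt ((Algebra.ofId k A).comp g) * (𝟙 (CoactBr.sp k A))⁻¹ =
      CoactBr.pt ((HopfAlgebra.antipodeAlgHom k A).comp (orb g)) := by
  rw [← antipode_comp_orb, ← CoactBr.pt_id, pt_inv', pt_mul_pt', pt_mul_pt']

variable [IsAlgClosed k] [Algebra.FiniteType k A]

/-- The image of `x ↦ x g x⁻¹` is closed iff the class of `g` is closed on points. -/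
theorem isClosed_range_conj_iff (g : A →ₐ[k] k) :
    IsClosed (Set.range ((𝟙 (CoactBr.sp k A) * CoactBr.pt ((Algebra.ofId k A).comp g) *
        (𝟙 (CoactBr.sp k A))⁻¹).left.base)) ↔ ClosedOrb A (toCj g) := by
  rw [conj_mor_eq, CoactBr.pt_left]
  have h1 : ∀ f : A, HopfAlgebra.antipodeAlgHom k A (HopfAlgebra.antipodeAlgHom k A f) = f :=
    fun f => K189.Antipode.antipode_antipode f
  have hSS : (HopfAlgebra.antipodeAlgHom k A).comp (HopfAlgebra.antipodeAlgHom k A) =
      AlgHom.id k A := AlgHom.ext h1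
  have h2 : RingHom.ker ((HopfAlgebra.antipodeAlgHom k A).comp (orb g)) =
      RingHom.ker (orb g) := by
    ext f
    rw [RingHom.mem_ker, RingHom.mem_ker, AlgHom.comp_apply]
    constructor
    · intro h
      rw [← h1 (orb g f), h, map_zero]
    · intro h
      rw [h, map_zero]
  refine (K701.SchOrbit.isClosed_range_iff
    ((HopfAlgebra.antipodeAlgHom k A).comp (orb g))).trans ?_
  rw [h2]
  refine forall₂_congr fun z _ => ?_
  constructor
  · rintro ⟨h, rfl⟩
    exact ⟨h.comp (HopfAlgebra.antipodeAlgHom k A), rfl⟩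
  · rintro ⟨h, hh⟩
    refine ⟨h.comp (HopfAlgebra.antipodeAlgHom k A), ?_⟩
    rw [← AlgHom.comp_assoc, AlgHom.comp_assoc h, hSS]
    exact hh

end K192.ConjScheme
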