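import Groth.Agent.HopfRep.K192.UnipConj
import Groth.Agent.HopfRep.K192.RedQuot
import Groth.Agent.HopfRep.K192.ConjScheme

/-!
# Characters separate semisimple conjugacy classes (characteristic zero)

* `exists_conj_of_char`: two semisimple points of an affine algebraic group over an algebraically
  closed field of characteristic zero at which all characters agree are conjugate.
-/

set_option autoImplicit false

universe u v w

open TensorProduct HopfRep WithConv

noncomputable section

namespace K192.ConjMain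

open Groth.Agent.Sga3B.RG K192.Char K192.UnipConj Groth.Agent.Books.ComodHom

section

variable {K : Type u} [Field K] {A : Type u} [CommRing A] [HopfAlgebra K A]
  {C : Type u} [CommRing C] [HopfAlgebra K C]

lemma act_push (φ : C →ₐc[K] A) (V : Type w) [AddCommGroup V] [Module K V] [Comod K C V]
    (g : Pt K A) : @Comod.act K A _ _ _ V _ _ (pushComod (A := C) V (φ : C →ₗc[K] A)) g.ofConv =
      Comod.act K C V (Pt.map φ g).ofConv := by
  ext v
  change TensorProduct.rid K V (g.ofConv.toLinearMap.lTensor V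
    ((φ : C →ₗc[K] A).toLinearMap.lTensor V (Comod.coact (k := K) (A := C) v))) =
    TensorProduct.rid K V ((Pt.map φ g).ofConv.toLinearMap.lTensor V
      (Comod.coact (k := K) (A := C) v))
  rw [← LinearMap.comp_apply (LinearMap.lTensor V _), ← LinearMap.lTensor_comp]
  rfl

end

variable {K : Type u} [Field K] [IsAlgClosed K] [CharZero K] {A : Type u} [CommRing A]
  [HopfAlgebra K A] [Algebra.FiniteType K A]

omit [CharZero K] [Algebra.FiniteType K A] in
/-- The image of a semisimple point is semisimple. -/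
lemma SS_map {C : Type u} [CommRing C] [HopfAlgebra K C] (φ : C →ₐc[K] A) {g : Pt K A}
    (hg : SS g) : SS (Pt.map φ g) := by
  let c : Comod K A C := pushComod (A := C) C (φ : C →ₗc[K] A)
  have h1 := K192.SSPoint.isSemisimple_act (k := K) (A := A) C hg
  rw [act_push] at h1
  exact h1

/-- **Characters separate semisimple classes.** -/
theorem exists_conj_of_char (g g' : Pt K A) (hg : SS g) (hg' : SS g')
    (htr : ∀ f ∈ charSet K A, g f = g' f) : ∃ x : Pt K A, x * g * x⁻¹ = g' := by
  have hred : IsReduced A := K701.Orbit.isReduced_hopf K A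
  obtain ⟨C, _, _, φ, hC, hCr, hinj, hs, hlr, hu⟩ := K192.RedQuot.exists_linRed_quotient K A
  have h1 : ∀ f ∈ charSet K C, Pt.map φ g f = Pt.map φ g' f := by
    intro f hf
    obtain ⟨d, c, rfl⟩ := (mem_charSet_iff C f).1 hf
    let cA : Comod K A (Fin d → K) := pushComod (A := C) (Fin d → K) (φ : C →ₗc[K] A)
    have e1 : ∀ h : Pt K A, Pt.map φ h (chi K C (Fin d → K)) =
        LinearMap.trace K (Fin d → K) (Comod.act K C (Fin d → K) (Pt.map φ h).ofConv) := fun h =>
      apply_chi (k := K) C (V := Fin d → K) (Pt.map φ h).ofConv.toLinearMap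
    have e2 : ∀ h : Pt K A, h (chi K A (Fin d → K)) =
        LinearMap.trace K (Fin d → K) (Comod.act K A (Fin d → K) h.ofConv) := fun h =>
      apply_chi (k := K) A (V := Fin d → K) h.ofConv.toLinearMap
    have e3 := htr (chi K A (Fin d → K)) ((mem_charSet_iff A _).2 ⟨d, cA, rfl⟩)
    rw [e2, e2, act_push, act_push] at e3
    rw [e1, e1, e3]
  obtain ⟨h₁, hh₁⟩ := K192.SSClass.exists_conj_of_span hlr (Pt.map φ g).ofConv (Pt.map φ g').ofConv
    (K192.SSClass.closedOrb_of_isSemisimple _ (SS_map φ hg))
    (K192.SSClass.closedOrb_of_isSemisimple _ (SS_map φ hg')) h1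
  obtain ⟨h, hh⟩ := hs (toConv h₁)
  have hh₁' : Pt.map φ g' = Pt.map φ (h⁻¹ * g * h) := by
    rw [map_mul, map_mul, map_inv, hh]
    exact WithConv.ofConv_injective hh₁
  set U : Subgroup (Pt K A) := (Pt.map φ).ker with hU
  have hUcl : IsCl (U : Set (Pt K A)) := by
    have h2 : (U : Set (Pt K A)) = Pt.map φ ⁻¹' {1} := by
      ext x
      rfl
    rw [h2]
    exact (isCl_singleton 1).preimage_map φ
  have hUn : U.Normal := MonoidHom.normal_ker _
  obtain ⟨x, hx, hxg⟩ := exists_conj (g := h⁻¹ * g * h) (h := g') hUcl hu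
    (K192.SSClass.isSemisimple_conj g h hg) hg' (fun w hw => hUn.conj_mem w hw _)
    (fun w hw => by
      have := hUn.conj_mem w hw (h⁻¹ * g * h)⁻¹
      rwa [inv_inv] at this) (by
      rw [hU, MonoidHom.mem_ker, map_mul, hh₁', map_inv, inv_mul_cancel])
  refine ⟨x * h⁻¹, ?_⟩
  have e : x * h⁻¹ * g * (x * h⁻¹)⁻¹ = x * (h⁻¹ * g * h) * x⁻¹ := by group
  rw [e, ← hxg]
  group

end K192.ConjMain
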