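import Groth.Agent.CAlg.K79.KaehlerTr
import Groth.Agent.Ega4B.DimFT

/-!
# Rank of differentials and transcendence degree in characteristic zero

`finrank_span_D`: for an injective map `ψ : S → K` from a domain of finite type over a field `k` of
characteristic zero to a field, the `K`-span of the differentials of the elements of `S` has
dimension `dim S`.
-/

set_option autoImplicit false

universe u v w

namespace K192.DiffRank

open KaehlerDifferential

variable {k : Type u} [Field k] [CharZero k] {K : Type v} [Field K] [Algebra k K]
  {S : Type w} [CommRing S] [IsDomain S] [Algebra k S]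

/-- Differentials of algebraically independent elements are linearly independent. -/
theorem linearIndependent_D {ι : Type*} {v : ι → K} (hv : AlgebraicIndependent k v) :
    LinearIndependent K fun i => D k K (v i) := by
  obtain ⟨t, hst, ht⟩ := exists_isTranscendenceBasis_superset hv.coe_range
  have h1 : Algebra.IsAlgebraic (IntermediateField.adjoin k (Set.range ((↑) : t → K))) K :=
    ht.isAlgebraic_field
  obtain ⟨b, hb⟩ := K79.KaehlerTr.exists_basis ht.1
  have h2 : ∀ i, v i ∈ t := fun i => hst ⟨i, rfl⟩
  have h3 : (fun i => D k K (v i)) = fun i => b ⟨v i, h2 i⟩ := by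
    funext i
    rw [hb]
  rw [h3]
  refine b.linearIndependent.comp (fun i => (⟨v i, h2 i⟩ : t)) fun i j hij => ?_
  exact hv.injective (congrArg Subtype.val hij)

/-- The span of the differentials is spanned by the differentials of a transcendence basis. -/
theorem span_D_eq (ψ : S →ₐ[k] K) (hψ : Function.Injective ψ) {ι : Type*} {a : ι → S}
    (ha : IsTranscendenceBasis k a) :
    Submodule.span K (Set.range fun f => D k K (ψ f)) =
      Submodule.span K (Set.range fun i => D k K (ψ (a i))) := by
  refine le_antisymm ?_ ?_
  · rw [Submodule.span_le]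
    rintro _ ⟨f, rfl⟩
    let F := FractionRing S
    have halg : Algebra.IsAlgebraic S F := IsLocalization.isAlgebraic F (nonZeroDivisors S)
    have hv : IsTranscendenceBasis k (algebraMap S F ∘ a) := ha.algebraMap_comp
    have h1 : Algebra.IsAlgebraic
        (IntermediateField.adjoin k (Set.range (algebraMap S F ∘ a))) F := hv.isAlgebraic_field
    obtain ⟨b, hb⟩ := K79.KaehlerTr.exists_basis hv.1
    let ψF : F →ₐ[k] K := IsFractionRing.liftAlgHom (g := ψ) hψ
    have hψF : ∀ s : S, ψF (algebraMap S F s) = ψ s := fun s => by
      simp [ψF]
    let _ : Algebra F K := ψF.toRingHom.toAlgebra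
    have hst : IsScalarTower k F K := IsScalarTower.of_algebraMap_eq fun c => (ψF.commutes c).symm
    let m : Ω[F⁄k] →ₗ[F] Ω[K⁄k] := KaehlerDifferential.map k k F K
    have hm : ∀ x : F, m (D k F x) = D k K (ψF x) := fun x => KaehlerDifferential.map_D k k F K x
    have h2 : D k F (algebraMap S F f) ∈ Submodule.span F (Set.range fun i => b i) := by
      rw [b.span_eq]; trivial
    have h3 : ∀ y ∈ Submodule.span F (Set.range fun i => b i),
        m y ∈ Submodule.span K (Set.range fun i => D k K (ψ (a i))) := by
      intro y hy
      induction hy using Submodule.span_induction with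
      | mem y hy =>
        obtain ⟨i, rfl⟩ := hy
        refine Submodule.subset_span ⟨i, ?_⟩
        change D k K (ψ (a i)) = m (b i)
        rw [hb, hm, Function.comp_apply, hψF]
      | zero => rw [map_zero]; exact zero_mem _
      | add y z _ _ hy hz => rw [map_add]; exact add_mem hy hz
      | smul c y _ hy =>
        rw [map_smul]
        have h4 : c • m y = ψF c • m y := rfl
        rw [h4]
        exact Submodule.smul_mem _ _ hy
    have h5 := h3 _ h2
    rw [hm, hψF] at h5
    exact h5
  · refine Submodule.span_mono ?_
    rintro _ ⟨i, rfl⟩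
    exact ⟨a i, rfl⟩

/-- The rank of the differentials of the elements of `S` is the dimension of `S`. -/
theorem finrank_span_D [Algebra.FiniteType k S] (ψ : S →ₐ[k] K) (hψ : Function.Injective ψ) :
    ringKrullDim S =
      (Module.finrank K (Submodule.span K (Set.range fun f => D k K (ψ f))) : ℕ) := by
  obtain ⟨n, hn, hn'⟩ := Groth.Agent.Ega4B.DimFT.exists_dim k S
  obtain ⟨ι, a, ha⟩ := exists_isTranscendenceBasis' k S
  have hc : Cardinal.mk ι = n := by
    rw [← hn, ha.cardinalMk_eq_trdeg]
  have hfin : Finite ι := by
    rw [← Cardinal.lt_aleph0_iff_finite, hc]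
    exact Cardinal.natCast_lt_aleph0
  have := Fintype.ofFinite ι
  have h1 : AlgebraicIndependent k (fun i => ψ (a i)) := ha.1.map' hψ
  rw [span_D_eq ψ hψ ha, finrank_span_eq_card (linearIndependent_D h1), hn']
  have : Fintype.card ι = n := by
    have h2 : (Fintype.card ι : Cardinal) = n := by rw [← hc, Cardinal.mk_fintype]
    exact_mod_cast h2
  rw [this]

end K192.DiffRank
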