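import Groth.Agent.HopfRep.K192.ConjMain
import Groth.Agent.Books.ComodTrig

/-!
# Finitely many representations detect a semisimple class (characteristic zero)

* `diag_of_conj`: diagonalizability is invariant under linear isomorphisms;
* `SS_of_generating`: a point acting diagonalizably on a generating subspace is semisimple;
* `exists_family`: finitely many comodules detecting the conjugacy class of a semisimple point.
-/

set_option autoImplicit false

universe u v w

open TensorProduct HopfRep WithConv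

noncomputable section

namespace K192.FinConj

open Groth.Agent.Sga3B.RG K192.Char K192.UnipConj Groth.Agent.Books.ComodHom
open Groth.Agent.Books.ComodBasic

section Lin

variable {k : Type u} [Field k] {M : Type v} [AddCommGroup M] [Module k M]
  {N : Type w} [AddCommGroup N] [Module k N]

/-- Eigenvectors are mapped to eigenvectors. -/
lemma iSup_eigenspace_map_le {T : Module.End k M} {S : Module.End k N} (f : M →ₗ[k] N)
    (hf : ∀ x, f (T x) = S (f x)) :
    (⨆ μ, T.eigenspace μ).map f ≤ ⨆ μ, S.eigenspace μ := by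
  rw [Submodule.map_iSup]
  refine iSup_mono fun μ => ?_
  rintro _ ⟨x, hx, rfl⟩
  have hx' := Module.End.mem_eigenspace_iff.1 hx
  rw [Module.End.mem_eigenspace_iff, ← hf, hx', map_smul]

lemma diag_of_conj {T : Module.End k M} {S : Module.End k N} (e : M ≃ₗ[k] N)
    (he : ∀ x, e (T x) = S (e x)) (hT : ⨆ μ, T.eigenspace μ = ⊤) : ⨆ μ, S.eigenspace μ = ⊤ := by
  have h1 := iSup_eigenspace_map_le (T := T) (S := S) e.toLinearMap he
  rw [hT, Submodule.map_top] at h1
  rw [eq_top_iff]
  refine le_trans ?_ h1
  rw [LinearMap.range_eq_top.2 e.surjective]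

end Lin

variable {K : Type u} [Field K] [IsAlgClosed K] {A : Type u} [CommRing A] [HopfAlgebra K A]

omit [IsAlgClosed K] in
/-- A point acting diagonalizably on a generating subspace is semisimple. -/
theorem SS_of_generating {g : Pt K A} {s : Set A} (hgen : Algebra.adjoin K s = ⊤)
    (hs : ∀ w ∈ s, w ∈ ⨆ μ, Module.End.eigenspace (Comod.act K A A g.ofConv) μ) : SS g := by
  refine K192.SSPoint.isSemisimple_of_iSup_eigenspace _ ?_
  rw [eq_top_iff]
  rintro a -
  have ha : a ∈ Algebra.adjoin K s := by rw [hgen]; trivial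
  have hmul : ∀ x y : A, Comod.act K A A g.ofConv (x * y) =
      Comod.act K A A g.ofConv x * Comod.act K A A g.ofConv y := fun x y =>
    Groth.Agent.Books.HopfJordan.dact_point_mul g.ofConv x y
  have hone : Comod.act K A A g.ofConv 1 = 1 :=
    Groth.Agent.Books.HopfJordan.dact_point_one g.ofConv
  induction ha using Algebra.adjoin_induction with
  | mem x hx => exact hs x hx
  | algebraMap c =>
    refine Submodule.mem_iSup_of_mem 1 ?_
    rw [Module.End.mem_eigenspace_iff, Algebra.algebraMap_eq_smul_one, map_smul, hone, one_smul]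
  | add x y _ _ hx hy => exact add_mem hx hy
  | mul x y _ _ hx hy =>
    obtain ⟨f, hf, rfl⟩ := (Submodule.mem_iSup_iff_exists_finsupp _ _).1 hx
    obtain ⟨f', hf', rfl⟩ := (Submodule.mem_iSup_iff_exists_finsupp _ _).1 hy
    rw [Finsupp.sum, Finsupp.sum, Finset.sum_mul_sum]
    refine Submodule.sum_mem _ fun μ _ => Submodule.sum_mem _ fun ν _ => ?_
    refine Submodule.mem_iSup_of_mem (μ * ν) ?_
    rw [Module.End.mem_eigenspace_iff, hmul, Module.End.mem_eigenspace_iff.1 (hf μ),
      Module.End.mem_eigenspace_iff.1 (hf' ν), smul_mul_smul_comm]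

omit [IsAlgClosed K] in
/-- The action of `g'` on a coordinate comodule is conjugate to that of `g`. -/
def Same (g g' : Pt K A) (p : Σ d : ℕ, Comod K A (Fin d → K)) : Prop :=
  ∃ P : (Fin p.1 → K) ≃ₗ[K] (Fin p.1 → K),
    P.toLinearMap ∘ₗ @Comod.act K A _ _ _ (Fin p.1 → K) _ _ p.2 g'.ofConv =
      (@Comod.act K A _ _ _ (Fin p.1 → K) _ _ p.2 g.ofConv) ∘ₗ P.toLinearMap

omit [IsAlgClosed K] in
lemma Same.trace {g g' : Pt K A} {d : ℕ} {c : Comod K A (Fin d → K)} (h : Same g g' ⟨d, c⟩) :
    g' (chi K A (Fin d → K)) = g (chi K A (Fin d → K)) := by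
  obtain ⟨P, hP⟩ := h
  change P.toLinearMap ∘ₗ Comod.act K A (Fin d → K) g'.ofConv =
    Comod.act K A (Fin d → K) g.ofConv ∘ₗ P.toLinearMap at hP
  have e2 : ∀ h : Pt K A, h (chi K A (Fin d → K)) =
      LinearMap.trace K (Fin d → K) (Comod.act K A (Fin d → K) h.ofConv) := fun h =>
    apply_chi (k := K) A (V := Fin d → K) h.ofConv.toLinearMap
  have h4 : Comod.act K A (Fin d → K) g.ofConv = P.conj (Comod.act K A (Fin d → K) g'.ofConv) := by
    refine LinearMap.ext fun x => ?_
    have h5 := LinearMap.congr_fun hP (P.symm x)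
    change P (Comod.act K A (Fin d → K) g'.ofConv (P.symm x)) =
      Comod.act K A (Fin d → K) g.ofConv (P (P.symm x)) at h5
    rw [LinearEquiv.apply_symm_apply] at h5
    exact h5.symm
  rw [e2, e2, h4, LinearMap.trace_conj']

omit [IsAlgClosed K] in
lemma Same.diag {g g' : Pt K A} {d : ℕ} {c : Comod K A (Fin d → K)} (h : Same g g' ⟨d, c⟩)
    (hg : ⨆ μ, Module.End.eigenspace (Comod.act K A (Fin d → K) g.ofConv) μ = ⊤) :
    ⨆ μ, Module.End.eigenspace (Comod.act K A (Fin d → K) g'.ofConv) μ = ⊤ := by
  obtain ⟨P, hP⟩ := h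
  change P.toLinearMap ∘ₗ Comod.act K A (Fin d → K) g'.ofConv =
    Comod.act K A (Fin d → K) g.ofConv ∘ₗ P.toLinearMap at hP
  refine diag_of_conj (T := Comod.act K A (Fin d → K) g.ofConv) P.symm (fun x => ?_) hg
  have h5 := LinearMap.congr_fun hP (P.symm x)
  change P (Comod.act K A (Fin d → K) g'.ofConv (P.symm x)) =
    Comod.act K A (Fin d → K) g.ofConv (P (P.symm x)) at h5
  rw [LinearEquiv.apply_symm_apply] at h5
  rw [← h5, LinearEquiv.symm_apply_apply]

variable [CharZero K] [Algebra.FiniteType K A]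

/-- Finitely many comodules detecting the class of a semisimple point. -/
theorem exists_family (g : Pt K A) (hg : SS g) :
    ∃ (m : ℕ) (d : Fin m → ℕ) (c : (i : Fin m) → Comod K A (Fin (d i) → K)),
      ∀ g' : Pt K A, (∀ i : Fin m, Same g g' ⟨d i, c i⟩) → ∃ x : Pt K A, x * g' * x⁻¹ = g := by
  classical
  have hN : IsNoetherianRing A := Algebra.FiniteType.isNoetherianRing K A
  -- characters
  let f : (Σ d : ℕ, Comod K A (Fin d → K)) → A := fun p =>
    @chi K _ A _ _ _ (Fin p.1 → K) _ _ p.2 _ -
      algebraMap K A (g (@chi K _ A _ _ _ (Fin p.1 → K) _ _ p.2 _))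
  have hf : ∀ (p : Σ d : ℕ, Comod K A (Fin d → K)) (g' : Pt K A), g' (f p) =
      g' (@chi K _ A _ _ _ (Fin p.1 → K) _ _ p.2 _) -
        g (@chi K _ A _ _ _ (Fin p.1 → K) _ _ p.2 _) := by
    intro p g'
    have : g'.ofConv (f p) = g'.ofConv (@chi K _ A _ _ _ (Fin p.1 → K) _ _ p.2 _) -
        g (@chi K _ A _ _ _ (Fin p.1 → K) _ _ p.2 _) := by
      rw [map_sub, AlgHom.commutes]
      rfl
    exact this
  obtain ⟨s, hs, hspan⟩ := (Submodule.fg_span_iff_fg_span_finset_subset (Set.range f)).1
    (IsNoetherian.noetherian (Ideal.span (Set.range f)))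
  choose D hD using fun a : s => hs a.2
  -- a generating subcomodule
  obtain ⟨t, ht⟩ := Algebra.FiniteType.out (R := K) (A := A)
  obtain ⟨W, hW, hWfin, htW⟩ := Groth.Agent.Books.ComodTrig.exists_finite_subcomod
    (k := K) (A := A) (V := A) t
  let cW : Comod K A W := subComod W hW
  let cW' : Comod K A (Fin (Module.finrank K W) → K) := coordComod (k := K) A (V := W)
  let F : Option s → (Σ d : ℕ, Comod K A (Fin d → K)) := fun o =>
    o.elim ⟨Module.finrank K W, cW'⟩ fun a => D a
  let e := Fintype.equivFin (Option s)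
  refine ⟨Fintype.card (Option s), fun i => (F (e.symm i)).1, fun i => (F (e.symm i)).2,
    fun g' hg' => ?_⟩
  have hF : ∀ o : Option s, Same g g' (F o) := by
    intro o
    have h : Same g g' (F (e.symm (e o))) := hg' (e o)
    rwa [e.symm_apply_apply] at h
  -- `g'` is semisimple
  have hss : SS g' := by
    refine SS_of_generating (s := (W : Set A)) (top_le_iff.1 ?_) ?_
    · rw [← ht]
      exact Algebra.adjoin_mono fun a ha => htW a ha
    · intro w hw
      have h2 : ⨆ μ, Module.End.eigenspace
          (Comod.act K A (Fin (Module.finrank K W) → K) g'.ofConv) μ = ⊤ :=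
        Same.diag (hF none) (hg.diag (Fin (Module.finrank K W) → K))
      have h4 : IsComodHom K A ((Module.finBasis K W).equivFun.toLinearMap :
          W →ₗ[K] (Fin (Module.finrank K W) → K)) := fun v =>
        ComodTens.ofEquiv_coact_apply (Module.finBasis K W).equivFun
          (inferInstance : Comod K A W) v
      have h5 : ⨆ μ, Module.End.eigenspace (Comod.act K A W g'.ofConv) μ = ⊤ := by
        refine diag_of_conj (T := Comod.act K A (Fin (Module.finrank K W) → K) g'.ofConv)
          (Module.finBasis K W).equivFun.symm (fun x => ?_) h2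
        have h6 := h4.map_dact g'.ofConv.toLinearMap ((Module.finBasis K W).equivFun.symm x)
        simp only [LinearEquiv.coe_coe, LinearEquiv.apply_symm_apply] at h6
        rw [LinearEquiv.symm_apply_eq]
        exact h6.symm
      have h7 := iSup_eigenspace_map_le (T := Comod.act K A W g'.ofConv)
        (S := Comod.act K A A g'.ofConv) W.subtype
        (fun x => (isComodHom_subtype W hW).map_dact g'.ofConv.toLinearMap x)
      rw [h5] at h7
      exact h7 ⟨⟨w, hw⟩, trivial, rfl⟩
  -- characters agree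
  have hch : ∀ a : s, g' (a : A) = 0 := by
    intro a
    rw [← hD a, hf, sub_eq_zero]
    exact Same.trace (hF (some a))
  have hall : ∀ a ∈ Ideal.span (Set.range f), g' a = 0 := by
    intro a ha
    have h1 : Ideal.span (Set.range f) = Ideal.span (s : Set A) := hspan
    rw [h1] at ha
    have h2 : Ideal.span (s : Set A) ≤ RingHom.ker g'.ofConv :=
      Ideal.span_le.2 fun a ha => hch ⟨a, ha⟩
    exact h2 ha
  refine K192.ConjMain.exists_conj_of_char g' g hss hg fun a ha => ?_
  obtain ⟨d, c, rfl⟩ := (mem_charSet_iff A a).1 ha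
  have h1 := hall (f ⟨d, c⟩) (Ideal.subset_span ⟨⟨d, c⟩, rfl⟩)
  rw [hf] at h1
  exact sub_eq_zero.1 h1

end K192.FinConj
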