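import Groth.Agent.HopfRep.K192.DiffRank
import Groth.Agent.HopfRep.K189.Antipode
import Groth.Agent.S1846
import Groth.Agent.InvQ.K701.Orbit2

/-!
# Dimension of orbits in characteristic zero

`A` a commutative Hopf algebra of finite type over an algebraically closed field `k` of
characteristic zero, `R` a comodule algebra of finite type, `x` a point of `R`.  `cot x` is the image
of `R` in the cotangent space `Vq k A` of the group at the identity under the differential of the
orbit map; its dimension is the rank of the differential at the identity.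

* `ringKrullDim_quotient_comap`: all components of the closure of the orbit of `x` have dimension
  `dim (cot x)`;
* `exists_actPt_eq_of_finrank_le`: if `z` is in the closure of the orbit of `x` and
  `dim (cot x) ≤ dim (cot z)` then `z` is in the orbit of `x`.
-/

set_option autoImplicit false

universe u v w

open TensorProduct HopfRep GLin WithConv

noncomputable section

namespace K192.OrbitDim

open Groth.Agent.S1846 KaehlerDifferential

section Del

variable {k : Type u} [CommRing k] {A : Type v} [CommRing A] [HopfAlgebra k A]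

lemma del_one : del k A 1 = 0 := by
  have h := del_mul k A 1 1
  rw [mul_one, Bialgebra.counit_one, one_smul] at h
  exact left_eq_add.1 h

lemma del_algebraMap (c : k) : del k A (algebraMap k A c) = 0 := by
  rw [Algebra.algebraMap_eq_smul_one, map_smul, del_one, smul_zero]

lemma del_antipode (a : A) : del k A (HopfAlgebraStruct.antipode k a) = -del k A a := by
  have h1 : ∀ z : A ⊗[k] A, del k A (LinearMap.mul' k A
      ((HopfAlgebraStruct.antipode k (A := A)).rTensor A z)) =
      del k A (TensorProduct.lid k A ((CoalgebraStruct.counit (R := k) (A := A)).rTensor A z)) +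
      del k A (HopfAlgebraStruct.antipode k (TensorProduct.rid k A
        ((CoalgebraStruct.counit (R := k) (A := A)).lTensor A z))) := by
    intro z
    induction z with
    | zero => simp
    | tmul b c =>
      simp only [LinearMap.rTensor_tmul, LinearMap.mul'_apply, LinearMap.lTensor_tmul,
        TensorProduct.lid_tmul, TensorProduct.rid_tmul, map_smul]
      rw [del_mul, HopfAlgebra.counit_antipode]
    | add y z hy hz => simp only [map_add, hy, hz]; abel
  have h2 := h1 (CoalgebraStruct.comul (R := k) a)
  rw [Coalgebra.rTensor_counit_comul, Coalgebra.lTensor_counit_comul] at h2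
  have h3 : LinearMap.mul' k A ((HopfAlgebraStruct.antipode k (A := A)).rTensor A
      (CoalgebraStruct.comul (R := k) a)) = algebraMap k A (CoalgebraStruct.counit (R := k) a) :=
    LinearMap.congr_fun (HopfAlgebra.mul_antipode_rTensor_comul (R := k) (A := A)) a
  rw [h3, del_algebraMap] at h2
  simp only [TensorProduct.lid_tmul, TensorProduct.rid_tmul, one_smul] at h2
  rw [eq_neg_iff_add_eq_zero, add_comm]
  exact h2.symm

end Del

section E

variable {k : Type u} [Field k] {A : Type v} [CommRing A] [HopfAlgebra k A]
  {L : Type w} [Field L] [Algebra k L]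

/-- `a ↦ ∑ ι(a₂) ⊗ [a₁]`. -/
def eMap (ι : A →ₐ[k] L) : A →ₗ[k] L ⊗[k] Vq k A :=
  TensorProduct.map ι.toLinearMap (del k A) ∘ₗ (TensorProduct.comm k A A).toLinearMap ∘ₗ
    CoalgebraStruct.comul (R := k)

/-- `b ↦ ∑ ι(b₁) ⊗ [b₂]`. -/
def dMap (ι : A →ₐ[k] L) : A →ₗ[k] L ⊗[k] Vq k A :=
  TensorProduct.map ι.toLinearMap (del k A) ∘ₗ CoalgebraStruct.comul (R := k)

lemma dMap_antipode (ι : A →ₐ[k] L) (a : A) : dMap ι (HopfAlgebraStruct.antipode k a) =
    -eMap (ι.comp (HopfAlgebra.antipodeAlgHom k A)) a := by
  rw [dMap, eMap, LinearMap.comp_apply, LinearMap.comp_apply, LinearMap.comp_apply,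
    K189.Antipode.comul_antipode]
  generalize CoalgebraStruct.comul (R := k) a = z
  induction z with
  | zero => simp
  | tmul b c =>
    simp only [TensorProduct.map_tmul, TensorProduct.comm_tmul, LinearEquiv.coe_coe]
    rw [del_antipode, TensorProduct.tmul_neg]
    rfl
  | add y z hy hz => simp only [map_add, hy, hz]; abel

variable {R : Type w} [CommRing R] [Algebra k R] [Comod k A R] [IsCoactAlg k A R]

/-- The differential at the identity of the orbit map (on cotangent spaces). -/
def dOrb (x : R →ₐ[k] k) : R →ₗ[k] Vq k A := del k A ∘ₗ (orbitHom k A x).toLinearMap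

variable (A) in
/-- The image of the cotangent map of the orbit map at the identity. -/
def cot (x : R →ₐ[k] k) : Submodule k (Vq k A) := LinearMap.range (dOrb x)

lemma dOrb_apply (x : R →ₐ[k] k) (f : R) : dOrb x f = del k A (orbitHom k A x f) := rfl

lemma eMap_orbitHom (ι : A →ₐ[k] L) (x : R →ₐ[k] k) (f : R) : eMap ι (orbitHom k A x f) =
    TensorProduct.map ι.toLinearMap (dOrb x)
      (TensorProduct.comm k R A (Comod.coact (k := k) (A := A) f)) := by
  have h := K701.Orbit.isComodHom_orbitHom (k := k) (A := A) x f
  have h2 : CoalgebraStruct.comul (R := k) (orbitHom k A x f) =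
      (orbitHom k A x).toLinearMap.rTensor A (Comod.coact (k := k) (A := A) f) := h
  rw [eMap, LinearMap.comp_apply, LinearMap.comp_apply, h2]
  generalize Comod.coact (k := k) (A := A) f = z
  induction z with
  | zero => simp
  | tmul b c => simp [dOrb_apply]
  | add y z hy hz => simp only [map_add, hy, hz]

/-- The span of the twisted differentials is the base change of `cot x`. -/
lemma span_eMap (ι : A →ₐ[k] L) (x : R →ₐ[k] k) :
    Submodule.span L (Set.range fun f : R => eMap ι (orbitHom k A x f)) =
      Submodule.span L (Set.range fun f : R => (1 : L) ⊗ₜ[k] dOrb (A := A) x f) := by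
  apply le_antisymm
  · rw [Submodule.span_le]
    rintro _ ⟨f, rfl⟩
    change eMap ι (orbitHom k A x f) ∈ _
    rw [eMap_orbitHom]
    generalize Comod.coact (k := k) (A := A) f = z
    induction z with
    | zero => simp
    | tmul b c =>
      have h1 : TensorProduct.map ι.toLinearMap (dOrb x) (TensorProduct.comm k R A (b ⊗ₜ[k] c)) =
          ι c • ((1 : L) ⊗ₜ[k] dOrb (A := A) x b) := by
        rw [TensorProduct.comm_tmul, TensorProduct.map_tmul, TensorProduct.smul_tmul', smul_eq_mul,
          mul_one]
        rfl
      rw [h1]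
      exact Submodule.smul_mem _ _ (Submodule.subset_span ⟨b, rfl⟩)
    | add y z hy hz => rw [map_add, map_add]; exact add_mem hy hz
  · rw [Submodule.span_le]
    rintro _ ⟨f, rfl⟩
    change (1 : L) ⊗ₜ[k] dOrb (A := A) x f ∈ _
    -- `H (f ⊗ a) = ι (S a) • G f`
    let G : R →ₗ[k] L ⊗[k] Vq k A := TensorProduct.map ι.toLinearMap (dOrb x) ∘ₗ
      (TensorProduct.comm k R A).toLinearMap ∘ₗ Comod.coact (k := k) (A := A)
    let H : R ⊗[k] A →ₗ[k] L ⊗[k] Vq k A :=
      TensorProduct.lift (((LinearMap.lsmul L (L ⊗[k] Vq k A)).restrictScalars₁₂ k k).flip.compl₁₂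
        G (ι.toLinearMap ∘ₗ HopfAlgebraStruct.antipode k))
    have hH : ∀ (f : R) (a : A), H (f ⊗ₜ a) = ι (HopfAlgebraStruct.antipode k a) • G f :=
      fun f a => rfl
    have hmem : ∀ z : R ⊗[k] A, H z ∈
        Submodule.span L (Set.range fun f : R => eMap ι (orbitHom k A x f)) := by
      intro z
      induction z with
      | zero => rw [map_zero]; exact zero_mem _
      | tmul f a =>
        rw [hH]
        refine Submodule.smul_mem _ _ (Submodule.subset_span ⟨f, ?_⟩)
        exact eMap_orbitHom ι x f
      | add y z hy hz => rw [map_add]; exact add_mem hy hz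
    have key : H (Comod.coact (k := k) (A := A) f) = (1 : L) ⊗ₜ[k] dOrb (A := A) x f := by
      -- `K (f ⊗ (a ⊗ b)) = (ι (S b) * ι a) ⊗ dOrb f`
      let m : A ⊗[k] A →ₗ[k] L := ι.toLinearMap ∘ₗ LinearMap.mul' k A ∘ₗ
        (HopfAlgebraStruct.antipode k (A := A)).lTensor A
      let Kc : R ⊗[k] (A ⊗[k] A) →ₗ[k] L ⊗[k] Vq k A :=
        (TensorProduct.comm k _ _).toLinearMap ∘ₗ TensorProduct.map (dOrb x) m
      have h1 : ∀ z : R ⊗[k] A, H z = Kc (TensorProduct.assoc k R A A
          ((Comod.coact (k := k) (A := A)).rTensor A z)) := by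
        intro z
        induction z with
        | zero => simp
        | tmul f a =>
          rw [hH, LinearMap.rTensor_tmul]
          simp only [G, LinearMap.comp_apply, LinearEquiv.coe_coe]
          generalize Comod.coact (k := k) (A := A) f = y
          induction y with
          | zero => simp
          | tmul b c =>
            simp only [Kc, m, TensorProduct.comm_tmul, TensorProduct.map_tmul,
              TensorProduct.assoc_tmul, LinearMap.comp_apply, LinearEquiv.coe_coe,
              LinearMap.lTensor_tmul, LinearMap.mul'_apply, TensorProduct.smul_tmul']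
            congr 1
            change ι (HopfAlgebraStruct.antipode k a) * ι c = ι (c * HopfAlgebraStruct.antipode k a)
            rw [map_mul, mul_comm]
          | add y z hy hz => simp only [map_add, smul_add, TensorProduct.add_tmul, hy, hz]
        | add y z hy hz => rw [map_add, map_add, map_add, map_add, hy, hz]
      have h2 : ∀ z : R ⊗[k] A, Kc ((CoalgebraStruct.comul (R := k) (A := A)).lTensor R z) =
          (1 : L) ⊗ₜ[k] dOrb (A := A) x (TensorProduct.rid k R
            ((CoalgebraStruct.counit (R := k) (A := A)).lTensor R z)) := by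
        intro z
        induction z with
        | zero => simp
        | tmul f a =>
          simp only [Kc, m, LinearMap.lTensor_tmul, LinearMap.comp_apply, TensorProduct.map_tmul,
            LinearEquiv.coe_coe, TensorProduct.comm_tmul, TensorProduct.rid_tmul, map_smul]
          have h3 : LinearMap.mul' k A ((HopfAlgebraStruct.antipode k (A := A)).lTensor A
              (CoalgebraStruct.comul (R := k) a)) =
              algebraMap k A (CoalgebraStruct.counit (R := k) a) :=
            LinearMap.congr_fun (HopfAlgebra.mul_antipode_lTensor_comul (R := k) (A := A)) a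
          rw [h3]
          change ι (algebraMap k A (CoalgebraStruct.counit (R := k) a)) ⊗ₜ[k] _ = _
          rw [AlgHom.commutes, Algebra.algebraMap_eq_smul_one, TensorProduct.smul_tmul]
        | add y z hy hz => simp only [map_add, TensorProduct.tmul_add, hy, hz]
      have h4 := LinearMap.congr_fun (Comod.coassoc (k := k) (A := A) (V := R)) f
      simp only [LinearMap.comp_apply, LinearEquiv.coe_coe] at h4
      have h5 := LinearMap.congr_fun (Comod.counit_comp (k := k) (A := A) (V := R)) f
      simp only [LinearMap.comp_apply, LinearMap.flip_apply, TensorProduct.mk_apply] at h5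
      rw [h1, h4, h2, h5, TensorProduct.rid_tmul, one_smul]
    rw [← key]
    exact hmem _

/-- The dimension of the base change. -/
lemma finrank_span_tmul (x : R →ₐ[k] k) :
    Module.finrank L (Submodule.span L (Set.range fun f : R => (1 : L) ⊗ₜ[k] dOrb (A := A) x f)) =
      Module.finrank k (cot A x) := by
  let g : L ⊗[k] (cot A x) →ₗ[L] L ⊗[k] Vq k A := (cot A x).subtype.baseChange L
  have hg : Function.Injective g :=
    Module.Flat.lTensor_preserves_injective_linearMap (cot A x).subtype
      (cot A x).subtype_injective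
  have h1 : LinearMap.range g =
      Submodule.span L (Set.range fun f : R => (1 : L) ⊗ₜ[k] dOrb (A := A) x f) := by
    apply le_antisymm
    · rintro _ ⟨z, rfl⟩
      induction z with
      | zero => rw [map_zero]; exact zero_mem _
      | tmul l w =>
        obtain ⟨_, ⟨f, rfl⟩⟩ := w
        have h2 : g (l ⊗ₜ[k] (⟨dOrb (A := A) x f, ⟨f, rfl⟩⟩ : cot A x)) =
            l • ((1 : L) ⊗ₜ[k] dOrb (A := A) x f) := by
          rw [TensorProduct.smul_tmul', smul_eq_mul, mul_one]
          rfl
        rw [h2]
        exact Submodule.smul_mem _ _ (Submodule.subset_span ⟨f, rfl⟩)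
      | add y z hy hz => rw [map_add]; exact add_mem hy hz
    · rw [Submodule.span_le]
      rintro _ ⟨f, rfl⟩
      exact ⟨(1 : L) ⊗ₜ[k] (⟨dOrb (A := A) x f, ⟨f, rfl⟩⟩ : cot A x), rfl⟩
  rw [← h1, LinearMap.finrank_range_of_inj hg, Module.finrank_baseChange]

end E

section Main

variable {k : Type u} [Field k] [IsAlgClosed k] [CharZero k] {A : Type u} [CommRing A]
  [HopfAlgebra k A] [Algebra.FiniteType k A]
  {R : Type u} [CommRing R] [Algebra k R] [Algebra.FiniteType k R] [Comod k A R]
  [IsCoactAlg k A R]

open Groth.Agent.Books in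
/-- The preimage of a minimal prime under the antipode. -/
lemma comap_antipode_mem_minimalPrimes (q : Ideal A) (hq : q ∈ minimalPrimes A) :
    q.comap (HopfAlgebra.antipodeAlgHom k A) ∈ minimalPrimes A := by
  have hqp : q.IsPrime := hq.1.1
  have hss : ∀ p : Ideal A, (p.comap (HopfAlgebra.antipodeAlgHom k A)).comap
      (HopfAlgebra.antipodeAlgHom k A) = p := by
    intro p
    ext a
    rw [Ideal.mem_comap, Ideal.mem_comap]
    have : HopfAlgebra.antipodeAlgHom k A (HopfAlgebra.antipodeAlgHom k A a) = a :=
      K189.Antipode.antipode_antipode a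
    rw [this]
  refine ⟨⟨Ideal.comap_isPrime _ _, bot_le⟩, ?_⟩
  rintro p ⟨hp, -⟩ hpq
  have hp' : p.IsPrime := hp
  have h1 : p.comap (HopfAlgebra.antipodeAlgHom k A) ≤ q := by
    rw [← hss q]
    exact Ideal.comap_mono hpq
  have h2 : q ≤ p.comap (HopfAlgebra.antipodeAlgHom k A) :=
    hq.2 ⟨Ideal.comap_isPrime _ _, bot_le⟩ h1
  have h3 := Ideal.comap_mono (f := HopfAlgebra.antipodeAlgHom k A) h2
  rw [hss] at h3
  exact h3

/-- Each component of the closure of the orbit of `x` has dimension the rank of the differential of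
the orbit map. -/
theorem ringKrullDim_quotient_comap (x : R →ₐ[k] k) (q : Ideal A) (hq : q ∈ minimalPrimes A) :
    ringKrullDim (R ⧸ q.comap (orbitHom k A x)) = (Module.finrank k (cot A x) : ℕ) := by
  have hred : IsReduced A := K701.Orbit.isReduced_hopf k A
  have hqp : q.IsPrime := hq.1.1
  set p : Ideal A := q.comap (HopfAlgebra.antipodeAlgHom k A) with hp
  have hpm : p ∈ minimalPrimes A := comap_antipode_mem_minimalPrimes q hq
  have hpp : p.IsPrime := hpm.1.1
  have h1 : Subsingleton (PrimeSpectrum (Localization.AtPrime p)) :=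
    IsLocalization.subsingleton_primeSpectrum_of_mem_minimalPrimes p hpm _
  have h2 : IsField (Localization.AtPrime p) :=
    PrimeSpectrum.subsingleton_iff_isField_of_isReduced.mp h1
  have hbij : Function.Bijective (IsScalarTower.toAlgHom A (Localization.AtPrime p)
      p.ResidueField) := by
    refine ⟨?_, IsLocalRing.residue_surjective⟩
    let := h2.toField
    exact RingHom.injective (algebraMap (Localization.AtPrime p) p.ResidueField)
  have hloc : IsLocalization p.primeCompl p.ResidueField :=
    IsLocalization.isLocalization_of_algEquiv p.primeCompl (AlgEquiv.ofBijective _ hbij)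
  have hLM : IsLocalizedModule p.primeCompl (KaehlerDifferential.map k k A p.ResidueField) :=
    KaehlerDifferential.isLocalizedModule_map _ _ _ p.primeCompl
  have hbc := (isLocalizedModule_iff_isBaseChange p.primeCompl p.ResidueField
    (KaehlerDifferential.map k k A p.ResidueField)).mp hLM
  let L := p.ResidueField
  let ι : A →ₐ[k] L := IsScalarTower.toAlgHom k A L
  -- the trivialization of the differentials
  let Φ : Ω[L⁄k] ≃ₗ[L] L ⊗[k] Vq k A :=
    hbc.equiv.symm ≪≫ₗ ((equiv k A).baseChange A L _ _) ≪≫ₗ
      (TensorProduct.AlgebraTensorModule.cancelBaseChange k A L L (Vq k A))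
  have hΦ : ∀ b : A, Φ (D k L (ι b)) = dMap ι b := by
    intro b
    have e1 : D k L (ι b) = hbc.equiv ((1 : L) ⊗ₜ[A] D k A b) := by
      rw [IsBaseChange.equiv_tmul, one_smul, KaehlerDifferential.map_D]
      rfl
    have e2 : Φ (D k L (ι b)) = TensorProduct.AlgebraTensorModule.cancelBaseChange k A L L (Vq k A)
        ((1 : L) ⊗ₜ[A] (equiv k A (D k A b))) := by
      rw [e1]
      simp only [Φ, LinearEquiv.trans_apply, LinearEquiv.symm_apply_apply]
      rfl
    have e3 : equiv k A (D k A b) = (del k A).lTensor A (CoalgebraStruct.comul (R := k) b) :=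
      phi_D k A b
    rw [e2, e3, dMap, LinearMap.comp_apply]
    generalize CoalgebraStruct.comul (R := k) b = z
    induction z with
    | zero => simp
    | tmul b c =>
      rw [LinearMap.lTensor_tmul, TensorProduct.AlgebraTensorModule.cancelBaseChange_tmul,
        TensorProduct.map_tmul, Algebra.smul_def, mul_one]
      rfl
    | add y z hy hz => simp only [map_add, TensorProduct.tmul_add, hy, hz]
  -- the generic point
  let ι' : A →ₐ[k] L := ι.comp (HopfAlgebra.antipodeAlgHom k A)
  have hΦ' : ∀ a : A, Φ (D k L (ι' a)) = -eMap ι' a := fun a => by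
    have := hΦ (HopfAlgebraStruct.antipode k a)
    rw [dMap_antipode] at this
    exact this
  have hker : ∀ a : A, ι' a = 0 ↔ a ∈ q := by
    intro a
    have e1 : ι' a = algebraMap A L (HopfAlgebra.antipodeAlgHom k A a) := rfl
    have e2 : algebraMap A L (HopfAlgebra.antipodeAlgHom k A a) = 0 ↔
        HopfAlgebra.antipodeAlgHom k A a ∈ p := by
      rw [← RingHom.mem_ker, Ideal.ker_algebraMap_residueField]
    rw [e1, e2, hp, Ideal.mem_comap]
    have : HopfAlgebra.antipodeAlgHom k A (HopfAlgebra.antipodeAlgHom k A a) = a :=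
      K189.Antipode.antipode_antipode a
    rw [this]
  have hkerψ : ∀ f : R, f ∈ q.comap (orbitHom k A x) ↔ ι' (orbitHom k A x f) = 0 := by
    intro f
    rw [Ideal.mem_comap, hker]
  let ψ : (R ⧸ q.comap (orbitHom k A x)) →ₐ[k] L :=
    Ideal.Quotient.liftₐ _ (ι'.comp (orbitHom k A x)) fun f hf => (hkerψ f).1 hf
  have hψ : Function.Injective ψ := by
    rw [injective_iff_map_eq_zero]
    intro y hy
    obtain ⟨f, rfl⟩ := Ideal.Quotient.mk_surjective y
    rw [Ideal.Quotient.eq_zero_iff_mem, hkerψ]
    exact hy
  have hprime : (q.comap (orbitHom k A x)).IsPrime := Ideal.comap_isPrime _ _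
  rw [K192.DiffRank.finrank_span_D (k := k) ψ hψ]
  congr 1
  have hr : Set.range (fun f => D k L (ψ f)) = Set.range fun f : R => D k L (ι' (orbitHom k A x f)) := by
    ext y
    constructor
    · rintro ⟨z, rfl⟩
      obtain ⟨f, rfl⟩ := Ideal.Quotient.mk_surjective z
      exact ⟨f, rfl⟩
    · rintro ⟨f, rfl⟩
      exact ⟨Ideal.Quotient.mk _ f, rfl⟩
  have hs : (Submodule.span L (Set.range fun f => D k L (ψ f))).map Φ.toLinearMap =
      Submodule.span L (Set.range fun f : R => eMap ι' (orbitHom k A x f)) := by
    rw [hr, Submodule.map_span]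
    have : (Φ.toLinearMap : Ω[L⁄k] → L ⊗[k] Vq k A) '' (Set.range fun f : R =>
        D k L (ι' (orbitHom k A x f))) = -(Set.range fun f : R => eMap ι' (orbitHom k A x f)) := by
      ext y
      constructor
      · rintro ⟨_, ⟨f, rfl⟩, rfl⟩
        refine ⟨f, ?_⟩
        change eMap ι' (orbitHom k A x f) = -Φ (D k L (ι' (orbitHom k A x f)))
        rw [hΦ', neg_neg]
      · rintro ⟨f, hf⟩
        refine ⟨_, ⟨f, rfl⟩, ?_⟩
        change Φ (D k L (ι' (orbitHom k A x f))) = y
        rw [hΦ']
        change eMap ι' (orbitHom k A x f) = -y at hf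
        rw [hf, neg_neg]
    rw [this, Submodule.span_neg]
  have hf1 : Module.finrank L (Submodule.span L (Set.range fun f => D k L (ψ f))) =
      Module.finrank L ((Submodule.span L (Set.range fun f => D k L (ψ f))).map Φ.toLinearMap) :=
    (LinearEquiv.finrank_map_eq Φ _).symm
  rw [hf1, hs, span_eMap, finrank_span_tmul]

/-- If `z` is in the closure of the orbit of `x` and the rank of the differential of its orbit map
is at least that of `x`, then it is in the orbit of `x`. -/
theorem exists_actPt_eq_of_finrank_le (x z : R →ₐ[k] k)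
    (hz : ∀ f ∈ RingHom.ker (orbitHom k A x), z f = 0)
    (h : Module.finrank k (cot A x) ≤ Module.finrank k (cot A z)) :
    ∃ g : A →ₐ[k] k, z = actPt k g x := by
  have hnt : Nontrivial A := (Bialgebra.counitAlgHom k A).toRingHom.domain_nontrivial
  -- a component of the closure of the orbit of `z`
  obtain ⟨q', hq', -⟩ := Ideal.exists_minimalPrimes_le (I := (⊥ : Ideal A))
    (J := RingHom.ker (Bialgebra.counitAlgHom k A)) bot_le
  have hq'p : q'.IsPrime := hq'.1.1
  have hle : RingHom.ker (orbitHom k A x) ≤ RingHom.ker (orbitHom k A z) :=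
    K701.Orbit.le_ker_orbitHom (K701.Orbit.isSubcomod_ker_orbitHom x) z hz
  have hp'p : (q'.comap (orbitHom k A z)).IsPrime := Ideal.comap_isPrime _ _
  have hle' : RingHom.ker (orbitHom k A x) ≤ q'.comap (orbitHom k A z) := by
    intro f hf
    rw [Ideal.mem_comap]
    have : orbitHom k A z f = 0 := hle hf
    rw [this]
    exact zero_mem _
  obtain ⟨p, hp, hpp'⟩ := Ideal.exists_minimalPrimes_le hle'
  obtain ⟨q₁, hq₁, -, hq₁p⟩ := Ideal.exists_comap_eq_of_mem_minimalPrimes
    (I := (⊥ : Ideal A)) (orbitHom k A x).toRingHom p hp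
  obtain ⟨q, hq, hqq₁⟩ := Ideal.exists_minimalPrimes_le (I := (⊥ : Ideal A)) (J := q₁) bot_le
  have hqp : q.IsPrime := hq.1.1
  have hpq : q.comap (orbitHom k A x) = p := by
    have h1 : q.comap (orbitHom k A x) ≤ p := by
      rw [← hq₁p]
      exact Ideal.comap_mono hqq₁
    refine le_antisymm h1 (hp.2 ⟨Ideal.comap_isPrime _ _, ?_⟩ h1)
    intro f hf
    rw [Ideal.mem_comap]
    have : orbitHom k A x f = 0 := hf
    rw [this]
    exact zero_mem _
  have hpprime : p.IsPrime := hp.1.1
  have h2 : p = q'.comap (orbitHom k A z) := by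
    refine K701.Dim.eq_of_le_of_ringKrullDim_le (k := k) hpp' ?_
    rw [← hpq, ringKrullDim_quotient_comap x q hq, ringKrullDim_quotient_comap z q' hq']
    exact_mod_cast h
  exact K701.Orbit2.exists_actPt_eq_of_comap_eq x z q q' (hpq.trans h2)

end Main

end K192.OrbitDim
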