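import Groth.Prelude.Def_CoactBr

/-!
# Products of arbitrary points of an affine group scheme, and class functions
-/

set_option autoImplicit false

universe u

noncomputable section

open CategoryTheory MonoidalCategory CartesianMonoidalCategory MonObj AlgebraicGeometry Opposite
open scoped TensorProduct

namespace K192.PtsT

open CoactBr

variable {R : Type u} [CommRing R] {A B : Type u} [CommRing A] [CommRing B]

/-- The value of a function at a point. -/
def ev [Algebra R B] {T : Over (Spec (CommRingCat.of R))} (z : T ⟶ sp R B) (f : B) : Γ(T.left, ⊤) :=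
  z.left.appTop ((Scheme.ΓSpecIso (CommRingCat.of B)).inv f)

theorem ev_comp_pt [Algebra R A] [Algebra R B] {T : Over (Spec (CommRingCat.of R))} (z : T ⟶ sp R B)
    (φ : A →ₐ[R] B) (f : A) : ev (z ≫ pt φ) f = ev z (φ f) := by
  have h2 := ConcreteCategory.congr_hom
    (Scheme.ΓSpecIso_inv_naturality (CommRingCat.ofHom φ.toRingHom)) f
  have h3 : (z ≫ pt φ).left.appTop =
      (Spec.map (CommRingCat.ofHom φ.toRingHom)).appTop ≫ z.left.appTop :=
    Scheme.Hom.comp_appTop z.left (Spec.map (CommRingCat.ofHom φ.toRingHom))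
  have h4 : (Scheme.ΓSpecIso (CommRingCat.of B)).inv (φ f) =
      (Spec.map (CommRingCat.ofHom φ.toRingHom)).appTop
        ((Scheme.ΓSpecIso (CommRingCat.of A)).inv f) := h2
  rw [ev, ev, h3, h4]
  rfl

theorem ev_id_injective [Algebra R B] : Function.Injective (ev (𝟙 (sp R B))) := by
  intro x y h
  have h1 : ∀ f : B, ev (𝟙 (sp R B)) f = (Scheme.ΓSpecIso (CommRingCat.of B)).inv f := by
    intro f
    rw [ev]
    rfl
  rw [h1, h1] at h
  exact (ConcreteCategory.bijective_of_isIso (Scheme.ΓSpecIso (CommRingCat.of B)).inv).1 h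

/-- The library's braided monoidal structure on `Spec`. -/
local instance braidedAlgSpecOf (R : Type u) [CommRing R] : (algSpec (CommRingCat.of R)).Braided :=
  braidedAlgSpec

/-- The identification of the product of spectra with the spectrum of the tensor product. -/
def mu (R A B : Type u) [CommRing R] [CommRing A] [CommRing B] [Algebra R A] [Algebra R B] :
    sp R A ⊗ sp R B ⟶ sp R (A ⊗[R] B) :=
  Functor.LaxMonoidal.μ (algSpec (CommRingCat.of R)) (op (.of R A)) (op (.of R B))

theorem mu_pt_left [Algebra R A] [Algebra R B] :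
    mu R A B ≫ pt (Algebra.TensorProduct.includeLeft : A →ₐ[R] A ⊗[R] B) = fst _ _ :=
  Functor.Monoidal.μ_fst (algSpec (CommRingCat.of R)) (op (.of R A)) (op (.of R B))

theorem mu_pt_right [Algebra R A] [Algebra R B] :
    mu R A B ≫ pt (Algebra.TensorProduct.includeRight : B →ₐ[R] A ⊗[R] B) = snd _ _ :=
  Functor.Monoidal.μ_snd (algSpec (CommRingCat.of R)) (op (.of R A)) (op (.of R B))

theorem lift_pt_mu [Algebra R A] [Algebra R B] {K : Type u} [CommRing K] [Algebra R K]
    (x : A →ₐ[R] K) (y : B →ₐ[R] K) :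
    lift (pt x) (pt y) ≫ mu R A B = pt (Algebra.TensorProduct.lift x y fun _ _ => .all _ _) :=
  lift_pt_pt x y

/-- A pair of points as a point of `Spec (A ⊗ B)`. -/
def pair [Algebra R A] [Algebra R B] {T : Over (Spec (CommRingCat.of R))} (x : T ⟶ sp R A)
    (y : T ⟶ sp R B) : T ⟶ sp R (A ⊗[R] B) := lift x y ≫ mu R A B

theorem pair_left [Algebra R A] [Algebra R B] {T : Over (Spec (CommRingCat.of R))} (x : T ⟶ sp R A)
    (y : T ⟶ sp R B) : pair x y ≫ pt (Algebra.TensorProduct.includeLeft : A →ₐ[R] A ⊗[R] B) = x := by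
  rw [pair, Category.assoc, mu_pt_left, lift_fst]

theorem pair_right [Algebra R A] [Algebra R B] {T : Over (Spec (CommRingCat.of R))} (x : T ⟶ sp R A)
    (y : T ⟶ sp R B) : pair x y ≫ pt (Algebra.TensorProduct.includeRight : B →ₐ[R] A ⊗[R] B) = y := by
  rw [pair, Category.assoc, mu_pt_right, lift_snd]

theorem lift_incl [Algebra R A] [Algebra R B] :
    Algebra.TensorProduct.lift (Algebra.TensorProduct.includeLeft : A →ₐ[R] A ⊗[R] B)
      (Algebra.TensorProduct.includeRight : B →ₐ[R] A ⊗[R] B) (fun _ _ => .all _ _) =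
        AlgHom.id R (A ⊗[R] B) := by
  ext <;> simp

theorem lift_incl' [Algebra R A] [Algebra R B] :
    Algebra.TensorProduct.lift (Algebra.TensorProduct.includeRight : A →ₐ[R] B ⊗[R] A)
      (Algebra.TensorProduct.includeLeft : B →ₐ[R] B ⊗[R] A) (fun _ _ => .all _ _) =
        (Algebra.TensorProduct.comm R A B).toAlgHom := by
  ext <;> simp

theorem pair_incl [Algebra R A] [Algebra R B] :
    pair (pt (Algebra.TensorProduct.includeLeft : A →ₐ[R] A ⊗[R] B))
      (pt (Algebra.TensorProduct.includeRight : B →ₐ[R] A ⊗[R] B)) = 𝟙 (sp R (A ⊗[R] B)) := by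
  rw [pair, lift_pt_mu, lift_incl, pt_id]

section Bialg

variable [Bialgebra R A]

theorem mul_eq {T : Over (Spec (CommRingCat.of R))} (x y : T ⟶ sp R A) :
    x * y = pair x y ≫ pt (Bialgebra.comulAlgHom R A) := by
  have h : (pt (Algebra.TensorProduct.includeLeft : A →ₐ[R] A ⊗[R] A)) *
      (pt (Algebra.TensorProduct.includeRight : A →ₐ[R] A ⊗[R] A)) =
        pt (Bialgebra.comulAlgHom R A) := by
    rw [pt_mul_pt, lift_incl, AlgHom.id_comp]
  rw [← h, MonObj.comp_mul, pair_left, pair_right]

theorem mul_eq' {T : Over (Spec (CommRingCat.of R))} (x y : T ⟶ sp R A) :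
    y * x = pair x y ≫ pt ((Algebra.TensorProduct.comm R A A).toAlgHom.comp (Bialgebra.comulAlgHom R A)) := by
  have h : (pt (Algebra.TensorProduct.includeRight : A →ₐ[R] A ⊗[R] A)) *
      (pt (Algebra.TensorProduct.includeLeft : A →ₐ[R] A ⊗[R] A)) =
        pt ((Algebra.TensorProduct.comm R A A).toAlgHom.comp (Bialgebra.comulAlgHom R A)) := by
    rw [pt_mul_pt, lift_incl']
  rw [← h, MonObj.comp_mul, pair_left, pair_right]

/-- `f (x y) = f (y x)` for all points iff the comultiplication of `f` is symmetric. -/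
theorem symm_iff (f : A) :
    (∀ (T : Over (Spec (CommRingCat.of R))) (x y : T ⟶ sp R A), ev (x * y) f = ev (y * x) f) ↔
      CoalgebraStruct.comul (R := R) f =
        TensorProduct.comm R A A (CoalgebraStruct.comul (R := R) f) := by
  constructor
  · intro h
    have h1 := h (sp R (A ⊗[R] A)) (pt Algebra.TensorProduct.includeLeft)
      (pt Algebra.TensorProduct.includeRight)
    rw [mul_eq, mul_eq', ev_comp_pt, ev_comp_pt, pair_incl] at h1
    exact ev_id_injective h1
  · intro h T x y
    rw [mul_eq, mul_eq', ev_comp_pt, ev_comp_pt]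
    exact congrArg (ev (pair x y)) h

end Bialg

/-- Class functions on an affine group scheme. -/
theorem classFn_iff [HopfAlgebra R A] (f : A) :
    (∀ (T : Over (Spec (CommRingCat.of R))) (x g : T ⟶ sp R A),
      (x * g * x⁻¹).left.appTop ((Scheme.ΓSpecIso (CommRingCat.of A)).inv f) =
        g.left.appTop ((Scheme.ΓSpecIso (CommRingCat.of A)).inv f)) ↔
      CoalgebraStruct.comul (R := R) f =
        TensorProduct.comm R A A (CoalgebraStruct.comul (R := R) f) := by
  rw [← symm_iff]
  constructor
  · intro h T x y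
    have h1 := h T x (y * x)
    rw [← _root_.mul_assoc x y x, mul_inv_cancel_right] at h1
    exact h1
  · intro h T x g
    have h1 := h T x (g * x⁻¹)
    rw [inv_mul_cancel_right, ← _root_.mul_assoc] at h1
    exact h1

end K192.PtsT

end
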