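import Groth.Agent.HopfRep.K192.ClosedClass
import Groth.Agent.HopfRep.K192.ClassFn2
import Groth.Agent.InvQ.K701.SchOrbit

/-!
# Closed conjugacy classes of a linearly reductive group

* `closedOrb_of_isSemisimple`: semisimple classes are closed;
* `exists_conj_of_span`: two points with closed classes at which all characters agree are conjugate;
* `isSemisimple_of_closedOrb`: closed classes are semisimple (linearly reductive group);
* `isSemisimple_conj`: conjugates of semisimple points are semisimple.
-/

set_option autoImplicit false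

universe u v w

open TensorProduct HopfRep GLin WithConv

noncomputable section

namespace K192.SSClass

open K192.ConjAct K192.OrbitDim K192.ClosedClass Groth.Agent.Books Groth.Agent.Books.ComodPoints
open Groth.Agent.Books.HopfJordan (pointS)
open K701.Orbit3 K192.Char

section Conj

variable {k : Type u} [Field k] [IsAlgClosed k] {A : Type u} [CommRing A]
  [HopfAlgebra k A]

/-- A conjugate of a semisimple point is semisimple. -/
theorem isSemisimple_conj (x h : WithConv (A →ₐ[k] k))
    (hx : Module.End.IsSemisimple (Comod.act k A A x.ofConv)) :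
    Module.End.IsSemisimple (Comod.act k A A (h⁻¹ * x * h).ofConv) := by
  refine K192.SSPoint.isSemisimple_of_iSup_eigenspace _ ?_
  have h1 : ⨆ μ, Module.End.eigenspace (Comod.act k A A x.ofConv) μ = ⊤ :=
    K192.SSPoint.iSup_eigenspace_eq_top (V := A) (φ := x.ofConv.toLinearMap) hx
  rw [eq_top_iff]
  rintro a -
  have e1 : ∀ b : A, Comod.act k A A h⁻¹.ofConv (Comod.act k A A h.ofConv b) = b := by
    intro b
    rw [← LinearMap.comp_apply, ← act_mul, inv_mul_cancel, act_one]
    rfl
  have e2 : ∀ b : A, Comod.act k A A h.ofConv (Comod.act k A A h⁻¹.ofConv b) = b := by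
    intro b
    rw [← LinearMap.comp_apply, ← act_mul, mul_inv_cancel, act_one]
    rfl
  have h2 : Comod.act k A A h.ofConv a ∈
      ⨆ μ, Module.End.eigenspace (Comod.act k A A x.ofConv) μ := by
    rw [h1]
    trivial
  have h3 : a ∈ Submodule.map (Comod.act k A A h⁻¹.ofConv)
      (⨆ μ, Module.End.eigenspace (Comod.act k A A x.ofConv) μ) := ⟨_, h2, e1 a⟩
  rw [Submodule.map_iSup] at h3
  have h4 : (⨆ μ, Submodule.map (Comod.act k A A h⁻¹.ofConv)
      (Module.End.eigenspace (Comod.act k A A x.ofConv) μ)) ≤
      ⨆ μ, Module.End.eigenspace (Comod.act k A A (h⁻¹ * x * h).ofConv) μ := by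
    refine iSup_mono fun μ => ?_
    rintro _ ⟨b, hb, rfl⟩
    have hb' := Module.End.mem_eigenspace_iff.1 hb
    rw [Module.End.mem_eigenspace_iff, act_mul, act_mul]
    simp only [LinearMap.comp_apply]
    rw [e2, hb', map_smul]
  exact h4 h3

end Conj

section Closed

variable {k : Type u} [Field k] [IsAlgClosed k] [CharZero k] {A : Type u} [CommRing A]
  [HopfAlgebra k A] [Algebra.FiniteType k A]

/-- The class of a semisimple point is closed. -/
theorem closedOrb_of_isSemisimple (x : A →ₐ[k] k)
    (hx : Module.End.IsSemisimple (Comod.act k A A x)) : ClosedOrb A (toCj x) := by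
  have hred : IsReduced A := K701.Orbit.isReduced_hopf k A
  intro z hz
  obtain ⟨h, hh⟩ := exists_conj_of_closure x z hx hz
  refine ⟨h, ?_⟩
  rw [actPt_eq]
  exact hh

/-- An invariant of the conjugation action is a combination of characters. -/
theorem fixed_mem_span (hA : IsLinearlyReductive k A) (f : Cj k A)
    (hf : f ∈ fixedPts k A (Cj k A)) : (show A from f) ∈ Submodule.span k (charSet k A) := by
  have hred : IsReduced A := K701.Orbit.isReduced_hopf k A
  rw [← K192.ClassFn.symm_iff_mem_span hA]
  have h0 : ∀ x h : WithConv (A →ₐ[k] k), (h⁻¹ * x * h).ofConv (show A from f) =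
      x.ofConv (show A from f) := by
    intro x h
    have h1 := K701.Orbit.orbitHom_of_mem_fixedPts (toCj x.ofConv) hf
    have h2 := DFunLike.congr_fun (actPt_eq h.ofConv x.ofConv) f
    rw [K701.Orbit.actPt_apply, h1, AlgHom.commutes] at h2
    exact h2.symm
  have h1 : ∀ x h : WithConv (A →ₐ[k] k), (x * h).ofConv (show A from f) =
      (h * x).ofConv (show A from f) := by
    intro x h
    have := h0 (x * h) x
    rw [← this]
    congr 2
    simp only [mul_assoc, inv_mul_cancel_left]
  have h2 : ∀ x : A →ₐ[k] k, rho x (show A from f) = lam x (show A from f) := by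
    intro x
    rw [← sub_eq_zero]
    refine PointsAC.eq_zero_of_forall_point k A _ fun h => ?_
    rw [map_sub, sub_eq_zero, point_lam, point_rho]
    exact h1 _ _
  rw [← sub_eq_zero]
  refine PointsAC.tmul_eq_zero_of_forall (fun g : A →ₐ[k] k => g.toLinearMap)
    (fun b hb => PointsAC.eq_zero_of_forall_point k A b hb) _ fun x => ?_
  rw [map_sub, map_sub, sub_eq_zero]
  refine (h2 x).trans ?_
  rw [lam, LinearMap.comp_apply, LinearMap.comp_apply]
  generalize CoalgebraStruct.comul (R := k) (show A from f) = z
  induction z with
  | zero => simp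
  | tmul a b => simp
  | add y z hy hz => simp only [map_add, hy, hz]

/-- Two points with closed classes at which the characters agree are conjugate. -/
theorem exists_conj_of_span (hA : IsLinearlyReductive k A) (x y : A →ₐ[k] k)
    (hx : ClosedOrb A (toCj x)) (hy : ClosedOrb A (toCj y))
    (h : ∀ f ∈ charSet k A, x f = y f) :
    ∃ h : A →ₐ[k] k, y = ((toConv h)⁻¹ * toConv x * toConv h).ofConv := by
  have h1 : ∀ f ∈ Submodule.span k (charSet k A), x f = y f := by
    intro f hf
    induction hf using Submodule.span_induction with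
    | mem f hf => exact h f hf
    | zero => rw [map_zero, map_zero]
    | add f g _ _ hf hg => rw [map_add, map_add, hf, hg]
    | smul c f _ hf => rw [map_smul, map_smul, hf]
  obtain ⟨g, hg⟩ := hx (toCj y) (le_ker_of_closedOrb hA (toCj y) (toCj x) hy
    fun f hf => h1 f (fixed_mem_span hA f hf))
  rw [actPt_eq] at hg
  exact ⟨g, hg⟩

/-- The points of a closed class of a linearly reductive group are semisimple. -/
theorem isSemisimple_of_closedOrb (hA : IsLinearlyReductive k A) (x : A →ₐ[k] k)
    (hx : ClosedOrb A (toCj x)) : Module.End.IsSemisimple (Comod.act k A A x) := by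
  have hs := K192.SSPoint.isSemisimple_act_pointS A x
  obtain ⟨h, hh⟩ := exists_conj_of_span hA (pointS x) x
    (closedOrb_of_isSemisimple _ hs) hx fun f hf => by
      obtain ⟨d, c, rfl⟩ := (mem_charSet_iff A f).1 hf
      have e1 := apply_chi (k := k) A (V := Fin d → k) (pointS x).toLinearMap
      have e2 := apply_chi (k := k) A (V := Fin d → k) x.toLinearMap
      refine e1.trans (Eq.trans ?_ e2.symm)
      exact K192.SSPoint.trace_act_pointS (V := Fin d → k) x
  have h2 := isSemisimple_conj (toConv (pointS x)) (toConv h) hs
  rw [← hh] at h2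
  exact h2

/-- Linearly reductive group: a class is closed iff it is semisimple. -/
theorem closedOrb_iff_isSemisimple (hA : IsLinearlyReductive k A) (x : A →ₐ[k] k) :
    ClosedOrb A (toCj x) ↔ Module.End.IsSemisimple (Comod.act k A A x) :=
  ⟨isSemisimple_of_closedOrb hA x, closedOrb_of_isSemisimple x⟩

end Closed

end K192.SSClass
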