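import Groth.Agent.HopfRep.K192.SSClass
import Groth.Agent.Sga3B.RG.UnipRoot
import Groth.Agent.Sga3B.RG.Kolchin
import Groth.Agent.Sga3B.RG.ConjJordan

/-!
# Conjugacy of semisimple elements modulo a unipotent subgroup (characteristic zero)

* `mem_of_eigen_sum`, `iSup_eigenspace_mul`: diagonalizable operators (any dimension);
* `exists_additive`: a non-trivial closed group of unipotent points has a non-zero additive function;
* `exists_conj`: `g, g'` semisimple points, `U` a closed group of unipotent points normalised by `g`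
  with `g' ∈ g U`: then `g'` and `g` are conjugate under `U`.
-/

set_option autoImplicit false

universe u v w

open TensorProduct HopfRep WithConv Module

noncomputable section

namespace K192.UnipConj

section Lin

variable {k : Type u} [Field k] {M : Type v} [AddCommGroup M] [Module k M]

/-- The components of an element of a stable subspace are in the subspace. -/
theorem mem_of_eigen_sum (T : Module.End k M) {p : Submodule k M} (hp : ∀ x ∈ p, T x ∈ p)
    (s : Finset k) : ∀ (v : k → M), (∀ μ ∈ s, T (v μ) = μ • v μ) → ∑ μ ∈ s, v μ ∈ p →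
      ∀ μ ∈ s, v μ ∈ p := by
  classical
  induction s using Finset.induction_on with
  | empty => intro v _ _ μ hμ; simp at hμ
  | insert ν s hν ih =>
    intro v hv hs
    have h1 : ∑ μ ∈ s, (μ - ν) • v μ ∈ p := by
      have h2 := p.sub_mem (hp _ hs) (p.smul_mem ν hs)
      have h3 : T (∑ μ ∈ insert ν s, v μ) - ν • ∑ μ ∈ insert ν s, v μ =
          ∑ μ ∈ s, (μ - ν) • v μ := by
        rw [map_sum, Finset.smul_sum, ← Finset.sum_sub_distrib, Finset.sum_insert hν,
          hv ν (Finset.mem_insert_self _ _), sub_self, zero_add]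
        refine Finset.sum_congr rfl fun μ hμ => ?_
        rw [hv μ (Finset.mem_insert_of_mem hμ), sub_smul]
      rwa [h3] at h2
    have h4 := ih (fun μ => (μ - ν) • v μ) (fun μ hμ => by
      rw [map_smul, hv μ (Finset.mem_insert_of_mem hμ), smul_comm]) h1
    have h5 : ∀ μ ∈ s, v μ ∈ p := by
      intro μ hμ
      have hne : μ - ν ≠ 0 := sub_ne_zero.2 fun h => hν (h ▸ hμ)
      have := p.smul_mem (μ - ν)⁻¹ (h4 μ hμ)
      rwa [smul_smul, inv_mul_cancel₀ hne, one_smul] at this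
    intro μ hμ
    rcases Finset.mem_insert.1 hμ with rfl | hμ
    · rw [Finset.sum_insert hν] at hs
      have := p.sub_mem hs (p.sum_mem h5)
      rwa [add_sub_cancel_right] at this
    · exact h5 μ hμ

/-- Decomposition into eigenvectors. -/
theorem exists_eigen_sum {T : Module.End k M} (hT : ⨆ μ, T.eigenspace μ = ⊤) (x : M) :
    ∃ (s : Finset k) (v : k → M), (∀ μ, T (v μ) = μ • v μ) ∧ x = ∑ μ ∈ s, v μ := by
  have hx : x ∈ ⨆ μ, T.eigenspace μ := by rw [hT]; trivial
  obtain ⟨f, hf, hfx⟩ := (Submodule.mem_iSup_iff_exists_finsupp _ _).1 hx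
  exact ⟨f.support, f, fun μ => Module.End.mem_eigenspace_iff.1 (hf μ), hfx.symm⟩

/-- A product of commuting diagonalizable operators is diagonalizable. -/
theorem iSup_eigenspace_mul {S T : Module.End k M} (hc : ∀ x, S (T x) = T (S x))
    (hS : ⨆ μ, S.eigenspace μ = ⊤) (hT : ⨆ μ, T.eigenspace μ = ⊤) :
    ⨆ μ, (S * T).eigenspace μ = ⊤ := by
  rw [eq_top_iff, ← hS]
  refine iSup_le fun μ v hv => ?_
  obtain ⟨s, w, hw, rfl⟩ := exists_eigen_sum hT v
  have h1 := mem_of_eigen_sum T (p := S.eigenspace μ) (fun x hx => by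
    rw [Module.End.mem_eigenspace_iff] at hx ⊢
    rw [hc, hx, map_smul]) s w (fun ν _ => hw ν) hv
  refine Submodule.sum_mem _ fun ν hν => ?_
  refine Submodule.mem_iSup_of_mem (μ * ν) ?_
  rw [Module.End.mem_eigenspace_iff, Module.End.mul_apply, hw, map_smul,
    Module.End.mem_eigenspace_iff.1 (h1 ν hν), smul_smul, mul_comm]

/-- If `T` is diagonalizable and `(T - 1)² x ∈ p`, then `(T - 1) x ∈ p`. -/
theorem sub_mem_of_sub_sub_mem {T : Module.End k M} (hT : ⨆ μ, T.eigenspace μ = ⊤)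
    {p : Submodule k M} (hp : ∀ x ∈ p, T x ∈ p) {x : M}
    (hx : T (T x - x) - (T x - x) ∈ p) : T x - x ∈ p := by
  obtain ⟨s, w, hw, rfl⟩ := exists_eigen_sum hT x
  have e1 : T (∑ μ ∈ s, w μ) - ∑ μ ∈ s, w μ = ∑ μ ∈ s, (μ - 1) • w μ := by
    rw [map_sum, ← Finset.sum_sub_distrib]
    refine Finset.sum_congr rfl fun μ _ => ?_
    rw [hw, sub_smul, one_smul]
  have e2 : T (∑ μ ∈ s, (μ - 1) • w μ) - ∑ μ ∈ s, (μ - 1) • w μ =
      ∑ μ ∈ s, ((μ - 1) * (μ - 1)) • w μ := by
    rw [map_sum, ← Finset.sum_sub_distrib]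
    refine Finset.sum_congr rfl fun μ _ => ?_
    rw [map_smul, hw]
    module
  rw [e1, e2] at hx
  rw [e1]
  have h1 := mem_of_eigen_sum T hp s (fun μ => ((μ - 1) * (μ - 1)) • w μ) (fun μ _ => by
    rw [map_smul, hw, smul_comm]) hx
  refine Submodule.sum_mem _ fun μ hμ => ?_
  by_cases h : μ = 1
  · rw [h, sub_self, zero_smul]
    exact zero_mem _
  · have h2 : μ - 1 ≠ 0 := sub_ne_zero.2 h
    have h3 := p.smul_mem (μ - 1)⁻¹ (h1 μ hμ)
    rwa [smul_smul, inv_mul_cancel_left₀ h2] at h3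

end Lin

section Grp

open Groth.Agent.Sga3B.RG K192.ConjAct K192.SSPoint

variable {K : Type u} [Field K] [IsAlgClosed K] {A : Type u} [CommRing A] [HopfAlgebra K A]

/-- Points acting diagonalizably on the regular comodule. -/
def SS (g : Pt K A) : Prop := Module.End.IsSemisimple (Comod.act K A A g.ofConv)

lemma SS.diag {g : Pt K A} (hg : SS g) (V : Type w) [AddCommGroup V] [Module K V] [Comod K A V] :
    ⨆ μ, Module.End.eigenspace (Comod.act K A V g.ofConv) μ = ⊤ :=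
  iSup_eigenspace_eq_top (V := V) (φ := g.ofConv.toLinearMap) hg

lemma SS.diag_inv {g : Pt K A} (hg : SS g) (V : Type w) [AddCommGroup V] [Module K V]
    [Comod K A V] : ⨆ μ, Module.End.eigenspace (Comod.act K A V g⁻¹.ofConv) μ = ⊤ := by
  rw [eq_top_iff, ← hg.diag V]
  refine iSup_le fun μ v hv => ?_
  rw [Module.End.mem_eigenspace_iff] at hv
  have h1 : Comod.act K A V g⁻¹.ofConv (Comod.act K A V g.ofConv v) = v := by
    rw [← LinearMap.comp_apply, ← Groth.Agent.Books.ComodPoints.act_mul, inv_mul_cancel,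
      Groth.Agent.Books.ComodPoints.act_one]
    rfl
  rw [hv, map_smul] at h1
  by_cases h0 : μ = 0
  · rw [h0, zero_smul] at h1
    rw [← h1]
    exact zero_mem _
  · refine Submodule.mem_iSup_of_mem μ⁻¹ ?_
    rw [Module.End.mem_eigenspace_iff]
    conv_rhs => rw [← h1]
    rw [smul_smul, inv_mul_cancel₀ h0, one_smul]

omit [IsAlgClosed K] in
lemma pt_rho (g x : Pt K A) (f : A) : x (rho g.ofConv f) = (x * g) f := point_rho g.ofConv x.ofConv f

omit [IsAlgClosed K] in
lemma pt_lam (g x : Pt K A) (f : A) : x (lam g.ofConv f) = (g * x) f := point_lam g.ofConv x.ofConv f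

/-- `(cj g f)(x) = f (g x g⁻¹)` -/
def cj (g : Pt K A) : A →ₗ[K] A := Comod.act K A (Cj K A) g⁻¹.ofConv

omit [IsAlgClosed K] in
lemma pt_cj (g x : Pt K A) (f : A) : x (cj g f) = (g * x * g⁻¹) f := by
  have h := point_act g⁻¹.ofConv x.ofConv f
  change x (cj g f) = _ at h
  rw [h]
  congr 2
  change (g⁻¹)⁻¹ * x * g⁻¹ = _
  rw [inv_inv]

variable [Algebra.FiniteType K A] [IsReduced A]

lemma rho_rTr (g : Pt K A) (f : A) : rho g.ofConv f = rTr g f :=
  eq_of_forall_pt (K := K) fun x => by rw [pt_rho, rTr_apply_pt]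

/-- The operator `f ↦ (x ↦ f (h x g⁻¹))` is diagonalizable. -/
theorem diag_mixed {g h : Pt K A} (hg : SS g) (hh : SS h) :
    ⨆ μ, Module.End.eigenspace (lam h.ofConv ∘ₗ rho g⁻¹.ofConv : Module.End K A) μ = ⊤ := by
  have h1 : ⨆ μ, Module.End.eigenspace (rho h.ofConv : Module.End K A) μ = ⊤ := hh.diag A
  have h2 : ⨆ μ, Module.End.eigenspace (cj h : Module.End K A) μ = ⊤ := hh.diag_inv (Cj K A)
  have h3 : ⨆ μ, Module.End.eigenspace (rho g⁻¹.ofConv : Module.End K A) μ = ⊤ := hg.diag_inv A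
  have e1 : (lam h.ofConv : Module.End K A) = (rho h.ofConv : Module.End K A) * cj h := by
    ext f
    refine eq_of_forall_pt (K := K) fun x => ?_
    rw [Module.End.mul_apply, pt_lam, pt_rho, pt_cj]
    congr 2
    group
  have h4 : ⨆ μ, Module.End.eigenspace (lam h.ofConv : Module.End K A) μ = ⊤ := by
    rw [e1]
    refine iSup_eigenspace_mul (fun f => ?_) h1 h2
    refine eq_of_forall_pt (K := K) fun x => ?_
    rw [pt_rho, pt_cj, pt_cj, pt_rho]
    congr 2
    group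
  refine iSup_eigenspace_mul (fun f => ?_) h4 h3
  refine eq_of_forall_pt (K := K) fun x => ?_
  rw [pt_lam, pt_rho, pt_rho, pt_lam]
  congr 2
  group

/-- The functions additive on a subgroup. -/
def Add (W : Subgroup (Pt K A)) : Submodule K A where
  carrier := {f | ∀ x ∈ W, ∀ y ∈ W, (x * y) f = x f + y f}
  add_mem' := by
    intro f f' hf hf' x hx y hy
    have e : ∀ z : Pt K A, z (f + f') = z f + z f' := fun z => map_add z.ofConv _ _
    rw [e, e, e, hf x hx y hy, hf' x hx y hy]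
    ring
  zero_mem' := by
    intro x hx y hy
    have e : ∀ z : Pt K A, z (0 : A) = 0 := fun z => map_zero z.ofConv
    rw [e, e, e, add_zero]
  smul_mem' := by
    intro c f hf x hx y hy
    have e : ∀ z : Pt K A, z (c • f) = c * z f := fun z => map_smul z.ofConv _ _
    rw [e, e, e, hf x hx y hy, mul_add]

omit [IsAlgClosed K] [Algebra.FiniteType K A] [IsReduced A] in
lemma mem_Add {W : Subgroup (Pt K A)} {f : A} :
    f ∈ Add W ↔ ∀ x ∈ W, ∀ y ∈ W, (x * y) f = x f + y f := Iff.rfl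

/-- A non-trivial group of unipotent points has a non-zero additive function. -/
theorem exists_additive {W : Subgroup (Pt K A)} (hu : ∀ w ∈ W, IsUnip w) (hne : W ≠ ⊥) :
    ∃ f ∈ Add W, ∃ w ∈ W, w f ≠ 0 := by
  let N : Submodule K A := Submodule.span K {1} ⊔ (vanIdeal (W : Set (Pt K A))).restrictScalars K
  have hN : ∃ f : A, f ∉ N := by
    by_contra hcon
    push Not at hcon
    refine hne ((Subgroup.eq_bot_iff_forall _).2 fun w hw => ?_)
    apply Pt.ext'
    intro a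
    obtain ⟨b, hb, c, hc, hbc⟩ := Submodule.mem_sup.1 (hcon a)
    obtain ⟨r, rfl⟩ := Submodule.mem_span_singleton.1 hb
    have e : ∀ z : Pt K A, z ∈ W → z a = r := by
      intro z hz
      have h1 : z.ofConv (r • (1 : A) + c) = r := by
        rw [map_add, map_smul, map_one, smul_eq_mul, mul_one]
        have h2 : z.ofConv c = 0 := hc z hz
        rw [h2, add_zero]
      rw [hbc] at h1
      exact h1
    rw [e w hw, e 1 W.one_mem]
  obtain ⟨f, hf⟩ := hN
  obtain ⟨E, hEf, hfE, hE⟩ := exists_stable_submodule (K := K) f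
  obtain ⟨r, hr⟩ := exists_uflag_eq_top (subRTr E hE) W
    fun n hn => isNilpotent_subRTr hE (hu n hn)
  -- the first step of the flag which is not contained in `N`
  have hex : ∃ r, ¬ (uflag (subRTr E hE) W r).map E.subtype ≤ N := by
    refine ⟨r, fun hle => hf ?_⟩
    rw [hr] at hle
    exact hle ⟨⟨f, hfE⟩, trivial, rfl⟩
  classical
  set r₀ := Nat.find hex with hr₀
  have h1 : ¬ (uflag (subRTr E hE) W r₀).map E.subtype ≤ N := Nat.find_spec hex
  have hpos : r₀ ≠ 0 := by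
    intro h0
    rw [h0, uflag_zero, Submodule.map_bot] at h1
    exact h1 bot_le
  obtain ⟨m, hm⟩ := Nat.exists_eq_succ_of_ne_zero hpos
  have h2 : (uflag (subRTr E hE) W m).map E.subtype ≤ N := by
    by_contra hcon
    have := Nat.find_min' hex hcon
    omega
  obtain ⟨_, ⟨v, hv, rfl⟩, hvN⟩ := SetLike.not_le_iff_exists.1 h1
  rw [hm] at hv
  have h3 : ∀ w ∈ W, ∃ c : K, ∀ x ∈ W, (x * w) (v : A) - x (v : A) = c := by
    intro w hw
    have h4 := h2 ⟨_, mem_uflag_succ.1 hv w hw, rfl⟩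
    obtain ⟨b, hb, c, hc, hbc⟩ := Submodule.mem_sup.1 h4
    obtain ⟨r, rfl⟩ := Submodule.mem_span_singleton.1 hb
    refine ⟨r, fun x hx => ?_⟩
    have h5 : x.ofConv (r • (1 : A) + c) = r := by
      rw [map_add, map_smul, map_one, smul_eq_mul, mul_one]
      have h2 : x.ofConv c = 0 := hc x hx
      rw [h2, add_zero]
    rw [hbc] at h5
    rw [← rTr_apply_pt, ← h5]
    exact (map_sub x.ofConv _ _).symm
  set c₁ : K := (1 : Pt K A) (v : A) with hc₁
  have e : ∀ z : Pt K A, z ((v : A) - algebraMap K A c₁) = z (v : A) - c₁ := by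
    intro z
    have : z.ofConv ((v : A) - algebraMap K A c₁) = z.ofConv (v : A) - c₁ := by
      rw [map_sub, AlgHom.commutes]
      rfl
    exact this
  refine ⟨(v : A) - algebraMap K A c₁, ?_, ?_⟩
  · intro x hx y hy
    obtain ⟨c, hc⟩ := h3 y hy
    have h4 := hc x hx
    have h5 := hc 1 W.one_mem
    rw [one_mul] at h5
    rw [e, e, e]
    linear_combination h4 - h5
  · by_contra hcon
    push Not at hcon
    refine hvN ?_
    have h4 : (v : A) = c₁ • (1 : A) + ((v : A) - algebraMap K A c₁) := by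
      rw [Algebra.algebraMap_eq_smul_one]
      abel
    change (v : A) ∈ N
    rw [h4]
    exact Submodule.add_mem_sup (Submodule.smul_mem _ _ (Submodule.mem_span_singleton_self _)) hcon

omit [IsAlgClosed K] [Algebra.FiniteType K A] [IsReduced A] in
/-- An additive function on a closed group of unipotent points takes every value once it is
non-zero. -/
theorem exists_apply_eq [CharZero K] {W : Subgroup (Pt K A)} (hW : IsCl (W : Set (Pt K A)))
    (hu : ∀ w ∈ W, IsUnip w) {f : A} (hf : f ∈ Add W) {w : Pt K A} (hw : w ∈ W) (hfw : w f ≠ 0)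
    (t : K) : ∃ x ∈ W, x f = t := by
  have hpow : ∀ j : ℕ, (w ^ j) f = j * w f := by
    intro j
    induction j with
    | zero =>
      have h1 := hf 1 W.one_mem 1 W.one_mem
      rw [one_mul, left_eq_add] at h1
      rw [pow_zero, h1, Nat.cast_zero, zero_mul]
    | succ j ih =>
      rw [pow_succ, hf _ (W.pow_mem hw j) _ hw, ih, Nat.cast_succ]
      ring
  have h1 : unipHom (hu w hw) f = Polynomial.C (w f) * Polynomial.X := by
    apply poly_ext_nat
    intro j
    rw [unipHom_eval, hpow, Polynomial.eval_mul, Polynomial.eval_C, Polynomial.eval_X, mul_comm]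
  refine ⟨unipPt (hu w hw) (t / w f), ?_, ?_⟩
  · apply hW
    intro a ha
    have h2 : unipHom (hu w hw) a = 0 := by
      apply poly_ext_nat
      intro j
      rw [unipHom_eval, Polynomial.eval_zero]
      exact ha _ (W.pow_mem hw j)
    rw [unipPt_apply, h2, Polynomial.eval_zero]
  · rw [unipPt_apply, h1, Polynomial.eval_mul, Polynomial.eval_C, Polynomial.eval_X,
      mul_div_cancel₀ _ hfw]

/-- The descent step. -/
theorem exists_step [CharZero K] {W : Subgroup (Pt K A)} (hW : IsCl (W : Set (Pt K A)))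
    (hu : ∀ w ∈ W, IsUnip w) (hne : W ≠ ⊥) {g h : Pt K A} (hg : SS g) (hh : SS h)
    (hn : ∀ w ∈ W, g * w * g⁻¹ ∈ W) (hn' : ∀ w ∈ W, g⁻¹ * w * g ∈ W) (hgh : g⁻¹ * h ∈ W) :
    ∃ W' : Subgroup (Pt K A), W' ≤ W ∧ IsCl (W' : Set (Pt K A)) ∧
      vanIdeal (W : Set (Pt K A)) < vanIdeal (W' : Set (Pt K A)) ∧
      (∀ w ∈ W', g * w * g⁻¹ ∈ W') ∧ (∀ w ∈ W', g⁻¹ * w * g ∈ W') ∧
      ∃ w ∈ W, g⁻¹ * (w⁻¹ * h * w) ∈ W' := by
  obtain ⟨f, hf, w₀, hw₀, hfw₀⟩ := exists_additive hu hne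
  -- an eigenvector
  obtain ⟨s, v, hv, rfl⟩ := exists_eigen_sum (T := (cj g : Module.End K A))
    (hg.diag_inv (Cj K A)) f
  have hvA := mem_of_eigen_sum (cj g : Module.End K A) (p := Add W) (fun x hx => by
    intro a ha b hb
    have e : ∀ z : Pt K A, z ((cj g : Module.End K A) x) = (g * z * g⁻¹) x := fun z => pt_cj g z x
    rw [e, e, e, ← hx _ (hn a ha) _ (hn b hb)]
    congr 2
    group) s v (fun μ _ => hv μ) hf
  have hex : ∃ μ ∈ s, w₀ (v μ) ≠ 0 := by
    by_contra hcon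
    push Not at hcon
    refine hfw₀ ?_
    have h1 : w₀.ofConv (∑ μ ∈ s, v μ) = ∑ μ ∈ s, w₀.ofConv (v μ) := map_sum _ _ _
    refine h1.trans (Finset.sum_eq_zero hcon)
  obtain ⟨μ, hμs, hμ⟩ := hex
  set χ : A := v μ with hχ
  have hχA : ∀ x ∈ W, ∀ y ∈ W, (x * y) χ = x χ + y χ := hvA μ hμs
  have hconj : ∀ x : Pt K A, (g * x * g⁻¹) χ = μ * x χ := by
    intro x
    rw [← pt_cj g x χ]
    have : cj g χ = μ • χ := hv μ
    rw [this]
    exact map_smul x.ofConv _ _
  have hμ0 : μ ≠ 0 := by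
    intro h0
    have h1 := hconj (g⁻¹ * w₀ * g)
    rw [h0, zero_mul] at h1
    have h2 : g * (g⁻¹ * w₀ * g) * g⁻¹ = w₀ := by group
    rw [h2] at h1
    exact hμ h1
  have hconj' : ∀ x : Pt K A, (g⁻¹ * x * g) χ = μ⁻¹ * x χ := by
    intro x
    have h1 := hconj (g⁻¹ * x * g)
    have h2 : g * (g⁻¹ * x * g) * g⁻¹ = x := by group
    rw [h2] at h1
    rw [h1, inv_mul_cancel_left₀ hμ0]
  have hone : (1 : Pt K A) χ = 0 := by
    have h1 := hχA 1 W.one_mem 1 W.one_mem
    rw [one_mul] at h1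
    exact left_eq_add.1 h1
  have hinv : ∀ x ∈ W, x⁻¹ χ = -x χ := by
    intro x hx
    have h1 := hχA x⁻¹ (W.inv_mem hx) x hx
    rw [inv_mul_cancel, hone] at h1
    linear_combination -h1
  let W' : Subgroup (Pt K A) :=
    { carrier := {x | x ∈ W ∧ x χ = 0}
      one_mem' := ⟨W.one_mem, hone⟩
      mul_mem' := fun {x y} hx hy => ⟨W.mul_mem hx.1 hy.1, by
        rw [hχA x hx.1 y hy.1, hx.2, hy.2, add_zero]⟩
      inv_mem' := fun {x} hx => ⟨W.inv_mem hx.1, by rw [hinv x hx.1, hx.2, neg_zero]⟩ }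
  have hW'mem : ∀ x, x ∈ W' ↔ x ∈ W ∧ x χ = 0 := fun x => Iff.rfl
  have hle : W' ≤ W := fun x hx => hx.1
  refine ⟨W', hle, ?_, ?_, ?_, ?_, ?_⟩
  · have h1 : (W' : Set (Pt K A)) = (W : Set (Pt K A)) ∩ {x : Pt K A | x χ = 0} := rfl
    rw [h1]
    exact hW.inter (isCl_setOf_apply_eq_zero χ)
  · refine lt_of_le_of_ne (vanIdeal_anti hle) fun heq => hμ ?_
    have h1 : χ ∈ vanIdeal (W' : Set (Pt K A)) := fun x hx => hx.2
    rw [← heq] at h1
    exact h1 w₀ hw₀
  · intro w hw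
    exact ⟨hn w hw.1, by rw [hconj, hw.2, mul_zero]⟩
  · intro w hw
    exact ⟨hn' w hw.1, by rw [hconj', hw.2, mul_zero]⟩
  -- the fixed point
  set u : Pt K A := g⁻¹ * h with hu'
  have hkey : ∀ w ∈ W, (g⁻¹ * (w⁻¹ * h * w)) χ = -(μ⁻¹ * w χ) + u χ + w χ ∧
      g⁻¹ * (w⁻¹ * h * w) ∈ W := by
    intro w hw
    have e : g⁻¹ * (w⁻¹ * h * w) = (g⁻¹ * w⁻¹ * g) * u * w := by rw [hu']; group
    have h1 : g⁻¹ * w⁻¹ * g ∈ W := hn' _ (W.inv_mem hw)
    rw [e, hχA _ (W.mul_mem h1 hgh) _ hw, hχA _ h1 _ hgh, hconj', hinv w hw, mul_neg]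
    exact ⟨rfl, W.mul_mem (W.mul_mem h1 hgh) hw⟩
  by_cases hμ1 : μ = 1
  · -- semisimplicity of both points
    refine ⟨1, W.one_mem, (hkey 1 W.one_mem).2, ?_⟩
    rw [(hkey 1 W.one_mem).1, hone, mul_zero, neg_zero, zero_add, add_zero]
    let T : Module.End K A := lam h.ofConv ∘ₗ rho g⁻¹.ofConv
    have hT : ∀ (x : Pt K A) (a : A), x (T a) = (h * x * g⁻¹) a := by
      intro x a
      have : T a = lam h.ofConv (rho g⁻¹.ofConv a) := rfl
      rw [this, pt_lam, pt_rho]
    have hmem : ∀ x ∈ W, h * x * g⁻¹ ∈ W := by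
      intro x hx
      have e : h * x * g⁻¹ = g * (u * x) * g⁻¹ := by rw [hu']; group
      rw [e]
      exact hn _ (W.mul_mem hgh hx)
    let p : Submodule K A := (vanIdeal (W : Set (Pt K A))).restrictScalars K
    have hp : ∀ a ∈ p, T a ∈ p := by
      intro a ha x hx
      rw [hT]
      exact ha _ (hmem x hx)
    have h1 : ∀ x ∈ W, x (T χ - χ) = u χ := by
      intro x hx
      have e : x (T χ - χ) = x (T χ) - x χ := map_sub x.ofConv _ _
      have e2 : h * x * g⁻¹ = g * (u * x) * g⁻¹ := by rw [hu']; group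
      rw [e, hT, e2, hconj, hμ1, one_mul, hχA u hgh x hx]
      ring
    have h2 : T (T χ - χ) - (T χ - χ) ∈ p := by
      intro x hx
      have e : x (T (T χ - χ) - (T χ - χ)) = x (T (T χ - χ)) - x (T χ - χ) := map_sub x.ofConv _ _
      rw [e, hT, h1 _ (hmem x hx), h1 x hx, sub_self]
    have h3 := sub_mem_of_sub_sub_mem (diag_mixed hg hh) hp h2
    rw [← h1 1 W.one_mem]
    exact h3 1 W.one_mem
  · have hne : (1 : K) - μ⁻¹ ≠ 0 := by
      intro h0
      exact hμ1 (inv_eq_one.1 (sub_eq_zero.1 h0).symm)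
    obtain ⟨w, hw, hwt⟩ := exists_apply_eq hW hu (f := χ) hχA hw₀ hμ (-(u χ) / (1 - μ⁻¹))
    refine ⟨w, hw, (hkey w hw).2, ?_⟩
    rw [(hkey w hw).1, hwt]
    field_simp
    ring

/-- Two semisimple points congruent modulo a closed group `U` of unipotent points normalised by one
of them are conjugate under `U`. -/
theorem exists_conj [CharZero K] {U : Subgroup (Pt K A)} (hU : IsCl (U : Set (Pt K A)))
    (hu : ∀ w ∈ U, IsUnip w) {g h : Pt K A} (hg : SS g) (hh : SS h)
    (hn : ∀ w ∈ U, g * w * g⁻¹ ∈ U) (hn' : ∀ w ∈ U, g⁻¹ * w * g ∈ U) (hgh : g⁻¹ * h ∈ U) :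
    ∃ x ∈ U, x⁻¹ * h * x = g := by
  have hN : IsNoetherianRing A := Algebra.FiniteType.isNoetherianRing K A
  let S : Set (Ideal A) := {I | ∃ W : Subgroup (Pt K A), I = vanIdeal (W : Set (Pt K A)) ∧
    W ≤ U ∧ IsCl (W : Set (Pt K A)) ∧ (∀ w ∈ W, g * w * g⁻¹ ∈ W) ∧ (∀ w ∈ W, g⁻¹ * w * g ∈ W) ∧
    ∃ x ∈ U, g⁻¹ * (x⁻¹ * h * x) ∈ W}
  have hS : S.Nonempty := ⟨_, U, rfl, le_rfl, hU, hn, hn', 1, U.one_mem, by
    rw [inv_one, one_mul, mul_one]; exact hgh⟩
  obtain ⟨I, ⟨W, rfl, hWU, hW, hWn, hWn', x, hx, hxW⟩, hmax⟩ :=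
    set_has_maximal_iff_noetherian.2 hN S hS
  have hh' : SS (x⁻¹ * h * x) := K192.SSClass.isSemisimple_conj h x hh
  by_cases hne : W = ⊥
  · rw [hne, Subgroup.mem_bot] at hxW
    exact ⟨x, hx, (inv_mul_eq_one.1 hxW).symm⟩
  · obtain ⟨W', hW'W, hW', hlt, hn1, hn2, w, hw, hwW'⟩ := exists_step hW
      (fun w hw => hu w (hWU hw)) hne hg hh' hWn hWn' hxW
    refine absurd hlt (hmax _ ⟨W', rfl, hW'W.trans hWU, hW', hn1, hn2, x * w,
      U.mul_mem hx (hWU hw), ?_⟩)
    have e : (x * w)⁻¹ * h * (x * w) = w⁻¹ * (x⁻¹ * h * x) * w := by group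
    rw [e]
    exact hwW'

end Grp

end K192.UnipConj
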