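import Groth.Agent.Books.CharZeroUnip2
import Groth.Agent.Books.ComodHom
import Groth.Prelude.Def_LieHopf

/-!
# Unipotent groups in characteristic zero: representations are determined by the Lie algebra

For a unipotent commutative bialgebra `A` over a field of characteristic zero with Eulerian
operators `E n : A → A`, set `F n = (id ⊗ E n) ∘ ρ : V → V ⊗ A` for a comodule `V`.  Then
`F 0 v = v ⊗ 1`, `(n + 1) F (n + 1) = G ∘ F n` with `G (v ⊗ b) = F 1 v * b`, and `ρ v` is the
(finite) sum of the `F n v`.  The slices of `F 1` are the infinitesimal actions.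
-/

set_option autoImplicit false

universe u v w w'

open TensorProduct HopfRep

noncomputable section

namespace K192.UnipLie

open Groth.Agent.Books.ComodBasic Groth.Agent.Books.CharZeroUnip Groth.Agent.Books.CharZeroUnip2

section General

variable {k : Type u} {A : Type v} [Field k] [CommRing A] [Bialgebra k A] [CharZero k]
  (h : ∀ a : A, ∃ n, a ∈ Groth.Agent.Books.ComodSocle.soc k A A n)

section

variable (V : Type w) [AddCommGroup V] [Module k V]

/-- Any element of `V ⊗ A` is the sum of its Eulerian components. -/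
lemma exists_sum_E (x : V ⊗[k] A) :
    ∃ N : ℕ, ∀ M, N ≤ M → x = ∑ n ∈ Finset.range M, (E h n).lTensor V x := by
  induction x with
  | zero => exact ⟨0, fun M _ => by simp⟩
  | tmul v a =>
    refine ⟨(P h a).natDegree + 1, fun M hM => ?_⟩
    have := sum_eq_of_P h a M (by omega)
    simp only [LinearMap.lTensor_tmul]
    rw [← tmul_sum, ← this]
  | add x y hx hy =>
    obtain ⟨N, hN⟩ := hx
    obtain ⟨N', hN'⟩ := hy
    refine ⟨max N N', fun M hM => ?_⟩
    simp only [map_add, Finset.sum_add_distrib]
    rw [← hN M (le_trans (le_max_left _ _) hM), ← hN' M (le_trans (le_max_right _ _) hM)]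

variable [Comod k A V]

/-- The Eulerian components of the coaction. -/
def F (n : ℕ) : V →ₗ[k] V ⊗[k] A := (E h n).lTensor V ∘ₗ Comod.coact (k := k) (A := A)

lemma F_apply (n : ℕ) (v : V) : F h V n v = (E h n).lTensor V (Comod.coact (k := k) (A := A) v) := rfl

lemma F_zero (v : V) : F h V 0 v = v ⊗ₜ[k] (1 : A) := by
  have h1 : E h 0 = Algebra.linearMap k A ∘ₗ CoalgebraStruct.counit := by
    ext a
    rw [E_zero]
    rfl
  rw [F_apply, h1, LinearMap.lTensor_comp, LinearMap.comp_apply]
  have h2 := LinearMap.congr_fun (Comod.counit_comp (k := k) (A := A) (V := V)) v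
  rw [LinearMap.comp_apply] at h2
  rw [h2, LinearMap.flip_apply, TensorProduct.mk_apply, LinearMap.lTensor_tmul]
  simp

/-- `v ⊗ b ↦ F 1 v * (1 ⊗ b)`. -/
def G : V ⊗[k] A →ₗ[k] V ⊗[k] A :=
  (LinearMap.mul' k A).lTensor V ∘ₗ (TensorProduct.assoc k V A A).toLinearMap ∘ₗ (F h V 1).rTensor A

lemma G_tmul (v : V) (b : A) : G h V (v ⊗ₜ b) = (LinearMap.mulRight k b).lTensor V (F h V 1 v) := by
  simp only [G, LinearMap.comp_apply, LinearMap.rTensor_tmul, LinearEquiv.coe_coe]
  generalize F h V 1 v = y
  induction y with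
  | zero => simp
  | tmul v a => simp
  | add x y hx hy => simp only [add_tmul, map_add, hx, hy]

lemma G_rTensor_coact (n : ℕ) (x : V ⊗[k] A) :
    (LinearMap.mul' k A ∘ₗ TensorProduct.map (E h 1) (E h n)).lTensor V
      (TensorProduct.assoc k V A A ((Comod.coact (k := k) (A := A) (V := V)).rTensor A x)) =
      G h V ((E h n).lTensor V x) := by
  induction x with
  | zero => simp
  | tmul v a =>
    rw [LinearMap.rTensor_tmul, LinearMap.lTensor_tmul, G_tmul, F_apply]
    generalize Comod.coact (k := k) (A := A) v = y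
    induction y with
    | zero => simp
    | tmul v' b => simp
    | add x y hx hy => simp only [add_tmul, map_add, hx, hy]
  | add x y hx hy => simp only [map_add, hx, hy]

lemma mulE_comul (n : ℕ) :
    LinearMap.mul' k A ∘ₗ TensorProduct.map (E h 1) (E h n) ∘ₗ CoalgebraStruct.comul =
      ((n : k) + 1) • E h (n + 1) := by
  ext a
  let r := Coalgebra.Repr.arbitrary k a
  rw [LinearMap.smul_apply, E_succ h a r n, LinearMap.comp_apply, LinearMap.comp_apply]
  conv_lhs => rw [← r.eq]
  simp

/-- The recursion for the components of the coaction. -/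
theorem F_succ (n : ℕ) (v : V) : ((n : k) + 1) • F h V (n + 1) v = G h V (F h V n v) := by
  have h1 := LinearMap.congr_fun (Comod.coassoc (k := k) (A := A) (V := V)) v
  simp only [LinearMap.comp_apply, LinearEquiv.coe_coe] at h1
  have h2 : ((n : k) + 1) • F h V (n + 1) v =
      (((n : k) + 1) • E h (n + 1)).lTensor V (Comod.coact (k := k) (A := A) v) := by
    rw [LinearMap.lTensor_smul]
    rfl
  rw [h2, ← mulE_comul, F_apply, ← G_rTensor_coact, h1, ← LinearMap.lTensor_comp_apply,
    LinearMap.comp_assoc]

theorem F_succ' (n : ℕ) (v : V) : F h V (n + 1) v = ((n : k) + 1)⁻¹ • G h V (F h V n v) := by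
  rw [← F_succ, smul_smul, inv_mul_cancel₀ (Nat.cast_add_one_ne_zero n), one_smul]

end

section Stable

variable {V : Type w} [AddCommGroup V] [Module k V] [Comod k A V]

/-- If `F 1` kills `v` then `v` is fixed. -/
theorem coact_eq_of_F_one_eq_zero (v : V) (hv : F h V 1 v = 0) :
    Comod.coact (k := k) (A := A) v = v ⊗ₜ[k] (1 : A) := by
  have hn : ∀ n, F h V (n + 1) v = 0 := by
    intro n
    induction n with
    | zero => exact hv
    | succ n ih => rw [F_succ', ih, map_zero, smul_zero]
  obtain ⟨N, hN⟩ := exists_sum_E h V (Comod.coact (k := k) (A := A) v)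
  rw [hN (N + 1) (Nat.le_succ N), Finset.sum_range_succ']
  have : ∀ n ∈ Finset.range N, (E h (n + 1)).lTensor V (Comod.coact (k := k) (A := A) v) = 0 :=
    fun n _ => hn n
  rw [Finset.sum_eq_zero this, zero_add]
  exact F_zero h V v

/-- If `F 1` maps `W` into `W ⊗ A` then `W` is a subcomodule. -/
theorem isSubcomod_of_F_one (W : Submodule k V)
    (hW : ∀ w ∈ W, F h V 1 w ∈ LinearMap.range (W.subtype.rTensor A)) :
    IsSubcomod (k := k) (A := A) W := by
  have hG : ∀ x ∈ LinearMap.range (W.subtype.rTensor A),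
      G h V x ∈ LinearMap.range (W.subtype.rTensor A) := by
    rintro _ ⟨y, rfl⟩
    induction y with
    | zero => simp
    | tmul w b =>
      rw [LinearMap.rTensor_tmul, G_tmul]
      obtain ⟨z, hz⟩ := hW w w.2
      rw [Submodule.subtype_apply, ← hz]
      refine ⟨(LinearMap.mulRight k b).lTensor W z, ?_⟩
      rw [← LinearMap.comp_apply, ← LinearMap.comp_apply, LinearMap.rTensor_comp_lTensor,
        LinearMap.lTensor_comp_rTensor]
    | add x y hx hy =>
      rw [map_add, map_add]
      exact Submodule.add_mem _ hx hy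
  have hn : ∀ n, ∀ w ∈ W, F h V n w ∈ LinearMap.range (W.subtype.rTensor A) := by
    intro n w hw
    induction n with
    | zero =>
      rw [F_zero]
      exact ⟨⟨w, hw⟩ ⊗ₜ 1, rfl⟩
    | succ n ih =>
      rw [F_succ']
      exact Submodule.smul_mem _ _ (hG _ ih)
  intro w hw
  obtain ⟨N, hN⟩ := exists_sum_E h V (Comod.coact (k := k) (A := A) w)
  rw [hN N le_rfl]
  exact Submodule.sum_mem _ fun n _ => hn n w hw

/-- A linear map commuting with `F 1` commutes with the coactions. -/
theorem coact_comm_of_F_one {V' : Type w'} [AddCommGroup V'] [Module k V'] [Comod k A V']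
    (e : V →ₗ[k] V') (he : ∀ v, F h V' 1 (e v) = e.rTensor A (F h V 1 v)) (v : V) :
    Comod.coact (k := k) (A := A) (e v) = e.rTensor A (Comod.coact (k := k) (A := A) v) := by
  have hG : ∀ x : V ⊗[k] A, G h V' (e.rTensor A x) = e.rTensor A (G h V x) := by
    intro x
    induction x with
    | zero => simp
    | tmul w b =>
      rw [LinearMap.rTensor_tmul, G_tmul, G_tmul, he]
      generalize F h V 1 w = y
      rw [← LinearMap.comp_apply, ← LinearMap.comp_apply,
        LinearMap.rTensor_comp_lTensor, LinearMap.lTensor_comp_rTensor]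
    | add x y hx hy => simp only [map_add, hx, hy]
  have hn : ∀ n v, F h V' n (e v) = e.rTensor A (F h V n v) := by
    intro n v
    induction n with
    | zero => rw [F_zero, F_zero, LinearMap.rTensor_tmul]
    | succ n ih => rw [F_succ', F_succ', ih, hG, map_smul]
  obtain ⟨N, hN⟩ := exists_sum_E h V (Comod.coact (k := k) (A := A) v)
  obtain ⟨N', hN'⟩ := exists_sum_E h V' (Comod.coact (k := k) (A := A) (e v))
  rw [hN' (max N N') (le_max_right _ _), hN (max N N') (le_max_left _ _), map_sum]
  exact Finset.sum_congr rfl fun n _ => hn n v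

end Stable

end General

section Lie

variable {k : Type u} {A : Type u} [Field k] [CommRing A] [HopfAlgebra k A] [CharZero k]
  (h : ∀ a : A, ∃ n, a ∈ Groth.Agent.Books.ComodSocle.soc k A A n)

/-- The `ε`-derivation `φ ∘ E 1` attached to a functional `φ`. -/
def xi (φ : A →ₗ[k] k) : LieHopf.Lie k A :=
  Derivation.mk' (show A →ₗ[k] LieHopf.K k A from φ ∘ₗ E h 1) (by
    intro a b
    change φ (E h 1 (a * b)) = (Bialgebra.counitAlgHom k A a : k) * φ (E h 1 b) +
      (Bialgebra.counitAlgHom k A b : k) * φ (E h 1 a)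
    rw [E_one_mul, map_add, map_smul, map_smul]
    rfl)

lemma xi_apply (φ : A →ₗ[k] k) (a : A) : xi h φ a = φ (E h 1 a) := rfl

variable (V : Type w) [AddCommGroup V] [Module k V] [Comod k A V]

/-- The slice of `F 1` along `φ` is the infinitesimal action of `xi φ`. -/
lemma slice_F_one (φ : A →ₗ[k] k) (v : V) :
    slice V φ (F h V 1 v) = TensorProduct.rid k V
      (LinearMap.lTensor V ((xi h φ).toLinearMap.restrictScalars k : A →ₗ[k] k)
        (Comod.coact (k := k) (A := A) v)) := by
  change _ = TensorProduct.rid k V ((φ ∘ₗ E h 1).lTensor V (Comod.coact (k := k) (A := A) v))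
  rw [LinearMap.lTensor_comp_apply]
  rfl

end Lie

end K192.UnipLie

end
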